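import Cfsg.Agent.FusSys.AMap.Loop

/-!
The generated automorphisms of a centric subgroup are those of the family, given the classes above.
-/

set_option autoImplicit false
set_option linter.unusedSectionVars false
set_option linter.style.haveILetI false
set_option linter.unusedVariables false
set_option maxHeartbeats 800000

namespace Cfsg.Agent.FusSys.AM

open Cfsg Cfsg.FusionSystem Cfsg.Agent.FusSys

universe u

variable {Ω : Type u} [Group Ω] {S T : Subgroup Ω} {F : FusionSystem S}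
variable {P Q R P₁ P₂ P₃ : Subgroup Ω} {f g : Ω → Ω} {p : ℕ}
variable {A : ∀ P : Subgroup Ω, Subgroup (MulAut P)}

namespace AMap

variable (h : AMap p F T A)
include h

/-- The maps acting on the class of `P` through split maps. -/
def Rel (h : AMap p F T A) (P Q : Subgroup Ω) (f : Ω → Ω) : Prop :=
  Mor h.sys Q f ∧ ∀ (R R' P₁ P₂ : Subgroup Ω) (g g' : Ω → Ω), R ≤ Q → F.IsConj P R →
    Iso h.sys R R' f → Top F T P₁ → NMap h R P₁ g → NMap h R' P₂ g' →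
    ∃ s, h.Split P₁ P₂ s ∧ ∀ x ∈ R, g' (f x) = s (g x)

variable [Fact p.Prime] [Finite S]

/-- The automorphisms of `T` itself. -/
theorem autGroup_top : h.sys.autGroup T = A T := by
  haveI := h.finite_T
  have hTC : TC F T T := TC.top h.sc
  refine le_antisymm (fun α hα => ?_) (h.le_autGroup_sys hTC)
  let M : Subgroup Ω → (Ω → Ω) → Prop := fun Q f =>
    Mor h.sys Q f ∧ (Q = T → ∃ σ ∈ A T, ∀ x ∈ T, f x = apl σ x)
  have hM : SubRel F T M :=
    { congr := by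
        rintro Q f f₁ ⟨h1, h2⟩ he
        refine ⟨h1.congr he, fun hQ => ?_⟩
        obtain ⟨σ, hσ, hσx⟩ := h2 hQ
        exact ⟨σ, hσ, fun x hx => by rw [he x (hQ.ge hx)]; exact hσx x hx⟩
      le := fun h1 => ⟨h1.1.le, fun x hx => h1.1.mem_S hx⟩
      conj := by
        intro Q t hQ ht
        refine ⟨mor_conj (hQ.trans h.sc.1) (h.sc.1 ht), mor_conj hQ ht, fun _ => ?_⟩
        obtain ⟨c, hc, hcx⟩ := exists_mem_autInducedBy (P := T) ht (Subgroup.le_normalizer ht)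
        exact ⟨c, h.autT hTC hc, fun x hx => (hcx x hx).symm⟩
      comp := by
        rintro Q Q₁ f f₁ hf ⟨hfL, hfR⟩ hf₁ ⟨hf₁L, hf₁R⟩ hfQ
        refine ⟨hfL.comp hf₁L hfQ, fun hQ => ?_⟩
        obtain ⟨σ, hσ, hσx⟩ := hfR hQ
        obtain ⟨τ, hτ, hτx⟩ := hf₁R (le_antisymm hf₁L.le fun y hy => by
          have hy' := apl_mem σ⁻¹ hy
          have h1 := hfQ _ (hQ.ge hy')
          rwa [hσx _ hy', apl_apl_inv σ hy] at h1)
        refine ⟨τ * σ, Subgroup.mul_mem _ hτ hσ, fun x hx => ?_⟩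
        show f₁ (f x) = _
        rw [hσx x hx, hτx _ (apl_mem σ hx), apl_mul _ _ hx]
      inv := by
        rintro Q Q₁ f k hf ⟨hfL, hfR⟩ hk hkf
        obtain ⟨k', hk', hk'f, -⟩ := (show Iso h.sys Q Q₁ f from ⟨hfL, hf.2⟩).symm
        have hkL : Mor h.sys Q₁ k := hk'.1.congr fun y hy => by
          obtain ⟨x, hx, rfl⟩ := hf.exists_eq hy
          rw [hkf x hx, hk'f x hx]
        refine ⟨hkL, fun hQ₁ => ?_⟩
        obtain ⟨σ, hσ, hσx⟩ := hfR (eq_of_le_of_card h.sc.1 hfL.le (by rw [hf.card_eq, hQ₁]))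
        refine ⟨σ⁻¹, Subgroup.inv_mem _ hσ, fun y hy => ?_⟩
        obtain ⟨x, hx, rfl⟩ := hf.exists_eq (hQ₁.ge hy)
        rw [hkf x hx, hσx x (hfL.le hx), apl_inv_apl σ (hfL.le hx)] }
  obtain ⟨σ, hσ, hσx⟩ := ((h.mor_sys.1 (iso_apl le_rfl hα).1).2 M hM fun R β hR hβ =>
    ⟨h.mor_gen hR hβ, fun hR' => by subst hR'; exact ⟨β, hβ, fun _ _ => rfl⟩⟩).2 rfl
  rwa [apl_ext hσx]

theorem subRel_rel (hup : h.Known (Nat.card P)) (hP : TC F T P) :
    SubRel F T (h.Rel P) ∧ ∀ Q α, TC F T Q → α ∈ A Q → h.Rel P Q (apl α) := by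
  haveI := h.finite_T
  have hTp := h.isP_T
  have tcR : ∀ {R}, F.IsConj P R → TC F T R := fun {R} hc => by
    obtain ⟨k, hk⟩ := isConj_iff.1 hc
    exact hP.of_iso h.sc hk
  have hN : ∀ {R}, F.IsConj P R → (R < normalizerIn T R ∨ normalizerIn T R = R) := fun {R} hc => by
    rcases eq_or_lt_of_le (le_normalizerIn (tcR hc).1) with e | e
    · exact Or.inr e.symm
    · exact Or.inl e
  -- a map near `R` read on the top members
  have near : ∀ {R R' P₁ P₂ D : Subgroup Ω} {g g' e : Ω → Ω}, F.IsConj P R → Top F T P₁ →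
      NMap h R P₁ g → NMap h R' P₂ g' → R ≤ D → (R < D ∨ D = normalizerIn T R ∧ D = R) →
      D ≤ normalizerIn T R → Mor h.sys D e → Iso h.sys R R' e →
      ∃ s, h.Split P₁ P₂ s ∧ ∀ x ∈ R, g' (e x) = s (g x) := by
    intro R R' P₁ P₂ D g g' e hc h₁ hg hg' hRD hor hDN he hei
    have hgD := hg.1.mono hDN
    obtain ⟨M, hM⟩ := hgD.exists_iso
    obtain ⟨k, hk, hkg, hgk⟩ := hM.symm
    have hP₁M : P₁ ≤ M := fun y hy => by
      obtain ⟨x, hx, rfl⟩ := hg.2.1.exists_eq hy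
      exact hM.mem (hRD hx)
    have hMN : M ≤ normalizerIn T P₁ := fun y hy => by
      obtain ⟨x, hx, rfl⟩ := hM.exists_eq hy
      exact h.nmap_mem (tcR hc).1 hg.1 hg.2.1 (hDN hx)
    have hor' : P₁ < M ∨ M = normalizerIn T P₁ := by
      rcases hor with hlt | ⟨e1, e2⟩
      · refine Or.inl (lt_of_le_of_ne hP₁M fun eq => ?_)
        have h1 := card_lt_of_lt' hgD.le hlt
        rw [hg.2.1.card_eq, eq, ← hM.card_eq] at h1
        exact lt_irrefl _ h1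
      · rcases hN (isConj_trans hc (h.sys_iso_F hg.2.1).isConj) with hlt | he'
        · -- `R` is its own normalizer, so it is `T`
          exfalso
          have hRT : R = T := by
            by_contra hne
            exact (lt_inf_normalizer hTp le_rfl (lt_of_le_of_ne (tcR hc).1 hne)).ne
              (e1.symm.trans e2).symm
          have hP₁T : P₁ = T := eq_of_le_of_card h.sc.1 h₁.1.1
            (by rw [← hg.2.1.card_eq, hRT])
          exact hlt.not_ge ((normalizerIn_le T P₁).trans hP₁T.ge)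
        · exact Or.inr (le_antisymm hMN (he'.le.trans hP₁M))
    have heD : ∀ x ∈ D, e x ∈ normalizerIn T R' := fun x hx =>
      he.mem_normalizerIn hRD hei hx (hDN hx).2
    have hkD : ∀ y ∈ M, k y ∈ D := fun y hy => hk.mem hy
    have hkP : Iso h.sys P₁ R k := ⟨hk.1.mono hP₁M, fun x => ⟨fun hx =>
      ⟨g x, hg.2.1.mem hx, hkg x (hRD hx)⟩, fun ⟨y, hy, hyx⟩ => by
        obtain ⟨z, hz, rfl⟩ := hg.2.1.exists_eq hy
        rw [hkg z (hRD hz)] at hyx
        exact hyx ▸ hz⟩⟩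
    refine ⟨g' ∘ e ∘ k, h.loop hup M _ P₁ P₂ (isConj_trans hc (h.sys_iso_F hg.2.1).isConj) h₁
      hg'.2.2 hP₁M hor' hMN ((hk.1.comp he hkD).comp hg'.1 fun y hy => heD _ (hkD y hy))
      ((hkP.comp hei).comp hg'.2.1), fun x hx => ?_⟩
    show g' (e x) = g' (e (k (g x)))
    rw [hkg x (hRD hx)]
  have ordN : ∀ {R}, F.IsConj P R →
      (R < normalizerIn T R ∨ normalizerIn T R = normalizerIn T R ∧ normalizerIn T R = R) :=
    fun {R} hc => (hN hc).elim Or.inl fun e => Or.inr ⟨rfl, e⟩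
  constructor
  · exact
    { congr := by
        rintro Q f f₁ ⟨hL, hf⟩ he
        refine ⟨hL.congr he, fun R R' P₁ P₂ g g' hRQ hR hi h₁ hg hg' => ?_⟩
        obtain ⟨s, hs, hsx⟩ := hf R R' P₁ P₂ g g' hRQ hR
          (hi.congr fun x hx => (he x (hRQ hx)).symm) h₁ hg hg'
        exact ⟨s, hs, fun x hx => by rw [he x (hRQ hx)]; exact hsx x hx⟩
      le := fun h1 => ⟨h1.1.le, fun x hx => h1.1.mem_S hx⟩
      conj := by
        intro Q t hQ ht
        refine ⟨mor_conj (hQ.trans h.sc.1) (h.sc.1 ht), mor_conj hQ ht,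
          fun R R' P₁ P₂ g g' hRQ hR hi h₁ hg hg' => ?_⟩
        exact near hR h₁ hg hg' (le_normalizerIn (tcR hR).1) (ordN hR) le_rfl
          (mor_conj (normalizerIn_le T R) ht) hi
      comp := by
        rintro Q Q₁ f f₁ hf ⟨hfL, hfR⟩ hf₁ ⟨hf₁L, hf₁R⟩ hfQ
        refine ⟨hfL.comp hf₁L hfQ, fun R R₂ P₁ P₂ g g₂ hRQ hR hi h₁ hg hg₂ => ?_⟩
        obtain ⟨R₁, hR₁⟩ := (hfL.mono hRQ).exists_iso
        have hR₁Q : R₁ ≤ Q₁ := fun y hy => by
          obtain ⟨x, hx, rfl⟩ := hR₁.exists_eq hy; exact hfQ x (hRQ hx)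
        have hR₂ : Iso h.sys R₁ R₂ f₁ := ⟨hf₁L.mono hR₁Q, fun y => by
          rw [hi.2 y]
          constructor
          · rintro ⟨x, hx, rfl⟩; exact ⟨f x, hR₁.mem hx, rfl⟩
          · rintro ⟨z, hz, rfl⟩
            obtain ⟨x, hx, rfl⟩ := hR₁.exists_eq hz
            exact ⟨x, hx, rfl⟩⟩
        have hC₁ := isConj_trans hR (h.sys_iso_F hR₁).isConj
        obtain ⟨P₃, g₁, hg₁⟩ := h.exists_nmap (tcR hC₁)
        obtain ⟨s, hs, hsx⟩ := hfR R R₁ P₁ P₃ g g₁ hRQ hR hR₁ h₁ hg hg₁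
        obtain ⟨t, ht, htx⟩ := hf₁R R₁ R₂ P₃ P₂ g₁ g₂ hR₁Q hC₁ hR₂ hg₁.2.2 hg₁ hg₂
        refine ⟨t ∘ s, h.split_comp h₁ hs ht, fun x hx => ?_⟩
        show g₂ (f₁ (f x)) = t (s (g x))
        rw [htx _ (hR₁.mem hx), hsx x hx]
      inv := by
        rintro Q Q₁ f k hf ⟨hfL, hfR⟩ hk hkf
        obtain ⟨k', hk', hk'f, -⟩ := (show Iso h.sys Q Q₁ f from ⟨hfL, hf.2⟩).symm
        have hkL : Mor h.sys Q₁ k := hk'.1.congr fun y hy => by
          obtain ⟨x, hx, rfl⟩ := hf.exists_eq hy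
          rw [hkf x hx, hk'f x hx]
        refine ⟨hkL, fun R R₀ P₁ P₂ g g₀ hRQ hR hi h₁ hg hg₀ => ?_⟩
        have hR₀Q : R₀ ≤ Q := fun y hy => by
          obtain ⟨x, hx, rfl⟩ := hi.exists_eq hy; exact hk.mem (hRQ hx)
        have hfk : ∀ x ∈ R, f (k x) = x := fun x hx => by
          obtain ⟨y, hy, rfl⟩ := hf.exists_eq (hRQ hx)
          rw [hkf y hy]
        have hfi : Iso h.sys R₀ R f := ⟨hfL.mono hR₀Q, fun y => by
          constructor
          · intro hy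
            exact ⟨k y, hi.mem hy, hfk y hy⟩
          · rintro ⟨z, hz, rfl⟩
            obtain ⟨x, hx, rfl⟩ := hi.exists_eq hz
            rw [hfk x hx]; exact hx⟩
        have hC₀ := isConj_trans hR (h.sys_iso_F hi).isConj
        obtain ⟨s, hs, hsx⟩ := hfR R₀ R P₂ P₁ g₀ g hR₀Q hC₀ hfi hg₀.2.2 hg₀ hg
        obtain ⟨s₀, hs₀⟩ : ∃ s₀, Iso h.sys P₂ P₁ s₀ ∧ ∀ y ∈ P₂, s₀ y = s y := by
          obtain ⟨r, σ, hr, hσ, hrσ⟩ := hs
          exact ⟨r ∘ apl σ, ((iso_apl hg₀.2.2.1.1 (h.le_autGroup_sys hg₀.2.2.1 hσ)).comp hr.2.1),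
            fun y hy => (hrσ y hy).symm⟩
        obtain ⟨t, ht, hts, -⟩ := hs₀.1.symm
        have hts' : ∀ y ∈ P₂, t (s y) = y := fun y hy => by rw [← hs₀.2 y hy]; exact hts y hy
        refine ⟨t, h.split_inv hg₀.2.2 hs hts', fun x hx => ?_⟩
        have h1 := hsx _ (hi.mem hx)
        rw [hfk x hx] at h1
        rw [h1, hts' _ (hg₀.2.1.mem (hi.mem hx))] }
  · intro Q α hQ hα
    have hαm := h.mor_gen hQ hα
    refine ⟨hαm, fun R R' P₁ P₂ g g' hRQ hR hi h₁ hg hg' => ?_⟩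
    rcases hRQ.lt_or_eq with hlt | heq
    · haveI := finite_of_le (hQ.1.trans h.sc.1)
      exact near hR h₁ hg hg' (le_normalizerIn hRQ)
        (Or.inl (lt_normalizerIn (S := Q) (hTp.to_le hQ.1) hlt)) (inf_le_inf_right _ hQ.1)
        (hαm.mono (normalizerIn_le _ _)) hi
    · subst heq
      have hαi := iso_apl hQ.1 (h.le_autGroup_sys hQ hα)
      obtain rfl : R = R' := hαi.eq_image hi
      obtain ⟨s, hs, hsx⟩ := near (e := id) hR h₁ hg hg' (le_normalizerIn hQ.1) (ordN hR) le_rfl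
        (mor_id (normalizerIn_le T R)) (iso_id hQ.1)
      have hgα : (h.sys_iso_F hg.2.1).conjAut α ∈ A P₁ := h.equiv _ hQ hα
      refine ⟨s ∘ apl ((h.sys_iso_F hg.2.1).conjAut α),
        h.split_comp h₁ ⟨id, _, h.nmap_id h₁, hgα, fun _ _ => rfl⟩ hs, fun x hx => ?_⟩
      show g' (apl α x) = s (apl _ (g x))
      rw [(h.sys_iso_F hg.2.1).conjAut_apl α hx]
      exact hsx _ (apl_mem α hx)

theorem autGroup_le (hup : h.Known (Nat.card P)) (hP : TC F T P) : h.sys.autGroup P ≤ A P := by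
  haveI := h.finite_T
  intro α hα
  by_cases hPT : P = T
  · subst hPT
    exact h.autGroup_top ▸ hα
  obtain ⟨hM, hgen⟩ := h.subRel_rel hup hP
  have hαi := iso_apl hP.1 hα
  obtain ⟨P₁, g, hg⟩ := h.exists_nmap hP
  obtain ⟨s, ⟨r, σ, hr, hσ, hrσ⟩, hsx⟩ := ((h.mor_sys.1 hαi.1).2 _ hM hgen).2 P P P₁ P₁ g g le_rfl
    (isConj_refl (hP.1.trans h.sc.1)) hαi hg.2.2 hg hg
  have h₁ := hg.2.2
  have hP₁T : P₁ ≠ T := fun e => hPT (eq_of_le_of_card h.sc.1 hP.1 (by rw [hg.2.1.card_eq, e]))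
  have hlt : P₁ < normalizerIn T P₁ :=
    lt_inf_normalizer (h.isP_T) le_rfl (lt_of_le_of_ne h₁.1.1 hP₁T)
  obtain ⟨r', hr', hrN, hr'r, hrr'⟩ := h.nmap_inv h₁ hr
  obtain ⟨ρ, hρ, hρr⟩ := hrN.exists_mem_autGroup
  have hρA := (hup _ (h₁.1.mono hlt.le (normalizerIn_le _ _))
    (by rw [hg.2.1.card_eq]; exact card_lt_of_lt' (normalizerIn_le T P₁) hlt)).2 hρ
  have hρi : Iso F P₁ P₁ (apl ρ) :=
    (h.sys_iso_F hr.2.1).congr fun x hx => hρr x (hlt.le hx)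
  obtain ⟨β, hβ, hβx⟩ := h.restr h₁.1 hlt le_rfl hρA hρi
  obtain ⟨g', hg', hg'g, -⟩ := (h.sys_iso_F hg.2.1).symm
  have e : α = hg'.conjAut (β * σ) := apl_ext fun x hx => by
    have hgx : g x ∈ P₁ := hg.2.1.mem hx
    have h1 := hg'.conjAut_apl (β * σ) hgx
    rw [hg'g x hx, apl_mul _ _ hgx, hβx _ (apl_mem σ hgx), hρr _ (hlt.le (apl_mem σ hgx)),
      ← hrσ _ hgx, ← hsx x hx, hg'g _ (apl_mem α hx)] at h1
    exact h1.symm
  rw [e]
  exact h.equiv hg' h₁.1 (Subgroup.mul_mem _ hβ hσ)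

end AMap

end Cfsg.Agent.FusSys.AM
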