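import Cfsg.Agent.FusSys.InvariantOp
import Cfsg.Agent.FusSys.IndexPrimeSat

/-!
Subgroups of a strongly closed `T` all whose conjugates are centric in `T`; elementary tools for
automorphisms of `p`-groups and their restrictions.
-/

set_option autoImplicit false
set_option linter.unusedSectionVars false
set_option linter.style.haveILetI false
set_option linter.unusedVariables false

namespace Cfsg.Agent.FusSys.AM

open Cfsg Cfsg.FusionSystem Cfsg.Agent.FusSys

universe u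

variable {Ω : Type u} [Group Ω] {S T T' : Subgroup Ω} {F : FusionSystem S}
variable {P Q R Y W : Subgroup Ω} {f g : Ω → Ω} {p : ℕ}

/-- Every conjugate of `P` contains its centralizer in `T`. -/
def TC (F : FusionSystem S) (T P : Subgroup Ω) : Prop :=
  P ≤ T ∧ ∀ Q, F.IsConj P Q → centralizerIn T Q ≤ Q

theorem iso_le_T (hT : F.StronglyClosed T) (hi : Iso F P Q f) (hP : P ≤ T) : Q ≤ T := fun y hy => by
  obtain ⟨x, hx, rfl⟩ := hi.exists_eq hy
  exact StronglyClosed.mor_mem hT hi.1 hx (hP hx)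

/-- A map whose values on its source `P` lie in `P` is an automorphism of `P`. -/
theorem iso_of_stable [Finite S] (hf : Mor F P f) (h : ∀ x ∈ P, f x ∈ P) : Iso F P P f :=
  ⟨hf, fun y => ⟨fun hy => hf.surj_of_card hf.le h le_rfl hy, fun ⟨x, hx, hxy⟩ => hxy ▸ h x hx⟩⟩

theorem TC.of_iso (hT : F.StronglyClosed T) (h : TC F T P) (hi : Iso F P Q f) : TC F T Q :=
  ⟨iso_le_T hT hi h.1, fun R hR => h.2 R (isConj_trans hi.isConj hR)⟩

theorem TC.self (hT : F.StronglyClosed T) (h : TC F T P) : centralizerIn T P ≤ P :=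
  h.2 P (isConj_refl (h.1.trans hT.1))

theorem TC.mem (hT : F.StronglyClosed T) (h : TC F T P) {x : Ω} (hx : x ∈ T)
    (hc : ∀ y ∈ P, x * y * x⁻¹ = y) : x ∈ P :=
  h.self hT ⟨hx, Subgroup.mem_centralizer_iff.2 fun y hy => by
    calc y * x = x * y * x⁻¹ * x := by rw [hc y hy]
      _ = x * y := by group⟩

theorem TC.mono (h : TC F T P) (hPR : P ≤ R) (hR : R ≤ T) : TC F T R := by
  refine ⟨hR, fun Q hQ => ?_⟩
  obtain ⟨f, hf⟩ := isConj_iff.1 hQ
  obtain ⟨P', hP', hP'Q⟩ := hf.restrict hPR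
  exact le_trans (inf_le_inf_left T (Subgroup.centralizer_le hP'Q))
    ((h.2 P' hP'.isConj).trans hP'Q)

theorem TC.top [Finite S] (hT : F.StronglyClosed T) : TC F T T := by
  refine ⟨le_rfl, fun Q hQ => ?_⟩
  obtain ⟨f, hf⟩ := isConj_iff.1 hQ
  have h1 : Q = T := eq_of_le_of_card hT.1 (iso_le_T hT hf le_rfl) hf.card_eq.le
  rw [h1]
  exact inf_le_left

/-- A map fixing `P` moves the elements of `N_T(P)` inside their cosets of `P`. -/
theorem TC.diff_mem [Finite S] (hT : F.StronglyClosed T) (h : TC F T P) (hf : Mor F W f)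
    (hPW : P ≤ W) (hfix : ∀ x ∈ P, f x = x) {y : Ω} (hy : y ∈ W) (hyT : y ∈ T)
    (hyn : y ∈ Subgroup.normalizer (P : Set Ω)) : y⁻¹ * f y ∈ P := by
  refine h.mem hT (T.mul_mem (T.inv_mem hyT) (StronglyClosed.mor_mem hT hf hy hyT)) fun x hx => ?_
  have hyx := (Subgroup.mem_normalizer_iff.1 hyn x).1 hx
  have h1 := hf.map_conj hy (hPW hx)
  rw [hfix _ hyx, hfix x hx] at h1
  calc y⁻¹ * f y * x * (y⁻¹ * f y)⁻¹ = y⁻¹ * (f y * x * (f y)⁻¹) * y := by group
    _ = y⁻¹ * (y * x * y⁻¹) * y := by rw [← h1]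
    _ = x := by group

/-- An element of `T` conjugating like an automorphism which fixes `P` pointwise lies in `P`. -/
theorem TC.conj_fix (hT : F.StronglyClosed T) (h : TC F T P) {t : Ω} (ht : t ∈ T)
    (hx : ∀ x ∈ P, t * x * t⁻¹ = x) : t ∈ P := h.mem hT ht hx

/-! ### Powers of prime order -/

/-- An element of `p`-power order whose order is prime to `p` is trivial. -/
theorem eq_one_of_coprime {H : Type*} [Group H] {x : H} {k : ℕ} (h1 : x ^ p ^ k = 1)
    (h2 : (orderOf x).Coprime p) : x = 1 :=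
  orderOf_eq_one_iff.1 (Nat.eq_one_of_dvd_coprimes (Nat.Coprime.pow_right k h2) dvd_rfl
    (orderOf_dvd_of_pow_eq_one h1))

/-- If `x` of order prime to `p` differs from an element of `N` by an element of `p`-power order, and
`N` is normalized by both, it lies in `N`. -/
theorem mem_of_coprime_mul {H : Type*} [Group H] [Fact p.Prime] {Γ N : Subgroup H} {x d : H} {k : ℕ}
    (hN : ∀ a ∈ Γ, ∀ b ∈ N, a * b * a⁻¹ ∈ N) (hNΓ : N ≤ Γ) (hx : x ∈ Γ) (hd : d ∈ Γ)
    (hdk : d ^ p ^ k = 1) (hxd : x * d⁻¹ ∈ N) (hco : (orderOf x).Coprime p) : x ∈ N := by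
  haveI hn : (N.subgroupOf Γ).Normal := ⟨fun b hb a => hN a a.2 b hb⟩
  let π := QuotientGroup.mk' (N.subgroupOf Γ)
  have h1 : π ⟨x, hx⟩ = π ⟨d, hd⟩ := by
    rw [← mul_inv_eq_one, ← map_inv, ← map_mul]
    exact (QuotientGroup.eq_one_iff _).2 (Subgroup.mem_subgroupOf.2 hxd)
  have h2 : π ⟨x, hx⟩ = 1 := eq_one_of_coprime (p := p) (k := k)
    (by rw [h1, ← map_pow, show (⟨d, hd⟩ : Γ) ^ p ^ k = 1 from Subtype.ext hdk, map_one])
    (Nat.Coprime.coprime_dvd_left ((orderOf_map_dvd π _).trans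
      (by rw [Subgroup.orderOf_mk])) hco)
  exact Subgroup.mem_subgroupOf.1 ((QuotientGroup.eq_one_iff _).1 h2)

/-- An element with a `p'`-image can be replaced by a power of order prime to `p` with the same
image. -/
theorem exists_coprime_preimage {H K : Type*} [Group H] [Group K] [Fact p.Prime] [Finite H]
    (π : H →* K) {x : H} (hco : (orderOf (π x)).Coprime p) :
    ∃ y ∈ Subgroup.zpowers x, (orderOf y).Coprime p ∧ π y = π x := by
  obtain ⟨a, b, hab, hc, ha, hb, ⟨k, hk⟩, hbco⟩ :=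
    Cfsg.Agent.Fusion.exists_pPart_mul (p := p) x (isOfFinOrder_of_finite x)
  refine ⟨b, hb, hbco, ?_⟩
  have h1 : π a = 1 := by
    obtain ⟨j, rfl⟩ := ha
    refine eq_one_of_coprime (p := p) (k := k)
      (by rw [← map_pow, orderOf_dvd_iff_pow_eq_one.1 hk, map_one]) ?_
    rw [map_zpow]
    exact Nat.Coprime.coprime_dvd_left (orderOf_dvd_of_mem_zpowers ⟨j, rfl⟩) hco
  rw [hab, map_mul, h1, one_mul]

/-- A `p`-element has `p`-power order. -/
theorem exists_pow_of_dvd {H : Type*} [Group H] {x : H} (h : ∃ k, orderOf x ∣ p ^ k) :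
    ∃ k, x ^ p ^ k = 1 := by
  obtain ⟨k, hk⟩ := h
  exact ⟨k, orderOf_dvd_iff_pow_eq_one.1 hk⟩

/-! ### Restriction of automorphisms -/

/-- The automorphisms of `W` stabilizing `P`. -/
noncomputable def stab (W P : Subgroup Ω) [Finite W] : Subgroup (MulAut W) :=
  chainStab.subgroupOfFiniteSubmonoid
    { carrier := {α | ∀ x ∈ W, x ∈ P → apl α x ∈ P}
      one_mem' := fun x hx h => by rwa [apl_one hx]
      mul_mem' := by
        intro α β hα hβ x hx h
        rw [apl_mul _ _ hx]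
        exact hα _ (apl_mem β hx) (hβ x hx h) }

theorem mem_stab [Finite W] {α : MulAut W} :
    α ∈ stab W P ↔ ∀ x ∈ W, x ∈ P → apl α x ∈ P := Iff.rfl

/-- The restriction to a stable subgroup. -/
noncomputable def resHom [Finite W] (hPW : P ≤ W) : stab W P →* MulAut P where
  toFun α :=
    { toFun := fun x => ⟨apl (α : MulAut W) x, α.2 x (hPW x.2) x.2⟩
      invFun := fun x => ⟨apl (α : MulAut W)⁻¹ x, (α⁻¹).2 x (hPW x.2) x.2⟩
      left_inv := fun x => Subtype.ext (apl_inv_apl _ (hPW x.2))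
      right_inv := fun x => Subtype.ext (apl_apl_inv _ (hPW x.2))
      map_mul' := fun x y => Subtype.ext (by
        show apl (α : MulAut W) ((x : Ω) * y) = _
        rw [apl_apply _ (W.mul_mem (hPW x.2) (hPW y.2)),
          show (⟨(x : Ω) * y, W.mul_mem (hPW x.2) (hPW y.2)⟩ : W) = ⟨x, hPW x.2⟩ * ⟨y, hPW y.2⟩
            from rfl,
          map_mul, Subgroup.coe_mul, ← apl_apply (α : MulAut W), ← apl_apply (α : MulAut W)]
        rfl) }
  map_one' := MulEquiv.ext fun x => Subtype.ext (apl_one (hPW x.2))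
  map_mul' α β := MulEquiv.ext fun x => Subtype.ext (apl_mul _ _ (hPW x.2))

theorem resHom_apl [Finite W] (hPW : P ≤ W) (α : stab W P) {x : Ω} (hx : x ∈ P) :
    apl (resHom hPW α) x = apl (α : MulAut W) x := apl_apply _ hx

theorem resHom_mem [Finite S] [Finite W] (hPW : P ≤ W) (hW : W ≤ S) {α : stab W P}
    (hα : (α : MulAut W) ∈ F.autGroup W) : resHom hPW α ∈ F.autGroup P := by
  refine (mem_autGroup_iff (hPW.trans hW)).2
    ((iso_of_stable ((iso_apl hW hα).1.mono hPW) fun x hx => α.2 x (hPW hx) hx).congr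
      fun x hx => resHom_apl hPW α hx)

/-- An automorphism extending one of `P` stabilizes it. -/
theorem mem_stab_of_agree [Finite W] {α : MulAut W} {β : MulAut P}
    (h : ∀ x ∈ P, apl α x = apl β x) : α ∈ stab W P :=
  mem_stab.2 fun x _ hx => h x hx ▸ apl_mem β hx

theorem resHom_eq [Finite W] (hPW : P ≤ W) {α : stab W P} {β : MulAut P}
    (h : ∀ x ∈ P, apl (α : MulAut W) x = apl β x) : resHom hPW α = β :=
  apl_ext fun x hx => (resHom_apl hPW α hx).trans (h x hx)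

/-- An extension of an automorphism of order prime to `p` may be taken of order prime to `p`, as
one of its powers. -/
theorem exists_coprime_ext [Fact p.Prime] [Finite W] (hPW : P ≤ W) {Γ : Subgroup (MulAut W)}
    {β : MulAut W} {α : MulAut P} (hβ : β ∈ Γ) (h : ∀ x ∈ P, apl β x = apl α x)
    (hco : (orderOf α).Coprime p) :
    ∃ β' ∈ Γ, β' ∈ Subgroup.zpowers β ∧ (orderOf β').Coprime p ∧
      ∀ x ∈ P, apl β' x = apl α x := by
  haveI : Finite (MulAut W) := Finite.of_injective _ MulEquiv.toEquiv_injective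
  have hβs : β ∈ stab W P := mem_stab_of_agree h
  have e : resHom hPW ⟨β, hβs⟩ = α := resHom_eq hPW h
  obtain ⟨y, hy, hyco, hye⟩ := exists_coprime_preimage (p := p) (resHom hPW) (x := ⟨β, hβs⟩)
    (by rw [e]; exact hco)
  obtain ⟨j, rfl⟩ := hy
  refine ⟨β ^ j, Γ.zpow_mem hβ j, ⟨j, rfl⟩, ?_, fun x hx => ?_⟩
  · rwa [← Subgroup.orderOf_coe, Subgroup.coe_zpow] at hyco
  · have h1 := resHom_apl hPW ((⟨β, hβs⟩ : stab W P) ^ j) hx
    rw [hye, e] at h1
    simpa using h1.symm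

/-! ### Automorphisms fixing a centric part -/

/-- An automorphism fixing `P` pointwise and moving `W` in cosets of `P` has `p`-power order. -/
theorem pow_eq_one_of_fix [Fact p.Prime] [Finite S] (hS : IsPGroup p S) (hPW : P ≤ W) (hW : W ≤ S)
    {α : MulAut W} (hα : α ∈ F.autGroup W) (hfix : ∀ x ∈ P, apl α x = x)
    (hdiff : ∀ x ∈ W, x⁻¹ * apl α x ∈ P) : ∃ k, α ^ p ^ k = 1 := by
  haveI := finite_of_le (hPW.trans hW)
  obtain ⟨n, hn⟩ := pow_fix (hS.to_le (hPW.trans hW)) (iso_apl hW hα).1 hPW hfix hdiff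
  exact ⟨n, apl_ext fun x hx => by rw [autGroup_iterate (fun y _ => rfl) _ x hx, hn x hx, apl_one hx]⟩

/-- The same with an intermediate stable subgroup. -/
theorem pow_eq_one_of_fix₂ [Fact p.Prime] [Finite S] (hS : IsPGroup p S) (hPY : P ≤ Y) (hYW : Y ≤ W)
    (hW : W ≤ S) {α : MulAut W} (hα : α ∈ F.autGroup W) (hfix : ∀ x ∈ P, apl α x = x)
    (hdY : ∀ x ∈ Y, x⁻¹ * apl α x ∈ P) (hdW : ∀ x ∈ W, x⁻¹ * apl α x ∈ Y) :
    ∃ k, α ^ p ^ k = 1 := by
  haveI := finite_of_le (hPY.trans (hYW.trans hW))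
  obtain ⟨n, hn⟩ := pow_fix (hS.to_le (hPY.trans (hYW.trans hW)))
    ((iso_apl hW hα).1.mono hYW) hPY hfix hdY
  have hstep : ∀ k : ℕ, ∀ x ∈ W, x⁻¹ * apl (α ^ k) x ∈ Y := by
    intro k
    induction k with
    | zero => intro x hx; rw [pow_zero, apl_one hx, inv_mul_cancel]; exact Y.one_mem
    | succ k ih =>
      intro x hx
      rw [pow_succ', apl_mul _ _ hx]
      have h1 := Y.mul_mem (ih x hx) (hdW (apl (α ^ k) x) (apl_mem (α ^ k) hx))
      rwa [mul_assoc, mul_inv_cancel_left] at h1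
  obtain ⟨k, hk⟩ := pow_eq_one_of_fix (F := F) hS hYW hW (Subgroup.pow_mem _ hα (p ^ n))
    (fun x hx => by rw [autGroup_iterate (fun y _ => rfl) _ x (hYW hx), hn x hx]) (hstep _)
  exact ⟨n + k, by rw [pow_add, pow_mul, hk]⟩

/-- A `p'`-automorphism moving `W` in cosets of a larger subgroup `Q`, and `Q` in cosets of the
normal subgroup `Y`, moves `W` in cosets of `Y`. -/
theorem mod_of_chain [Fact p.Prime] [Finite S] (hS : IsPGroup p S) (hYQ : Y ≤ Q) (hQW : Q ≤ W)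
    (hW : W ≤ S) (hYn : W ≤ Subgroup.normalizer (Y : Set Ω)) {α : MulAut W}
    (hco : (orderOf α).Coprime p) (hQ : ∀ x ∈ Q, x⁻¹ * apl α x ∈ Y)
    (hWQ : ∀ x ∈ W, x⁻¹ * apl α x ∈ Q) {x : Ω} (hx : x ∈ W) : x⁻¹ * apl α x ∈ Y := by
  haveI : (Y.subgroupOf W).Normal := Subgroup.normal_subgroupOf_iff (hYQ.trans hQW) |>.2
    fun y g hy hg => (Subgroup.mem_normalizer_iff.1 (hYn hg) y).1 hy
  let π := QuotientGroup.mk' (Y.subgroupOf W)
  have hπ : ∀ {a b : Ω} (ha : a ∈ W) (hb : b ∈ W), a⁻¹ * b ∈ Y →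
      π ⟨a, ha⟩ = π ⟨b, hb⟩ := fun ha hb h => QuotientGroup.eq.2 (Subgroup.mem_subgroupOf.2 h)
  obtain ⟨d, hd⟩ : ∃ d, d = x⁻¹ * apl α x := ⟨_, rfl⟩
  have hdQ : d ∈ Q := hd ▸ hWQ x hx
  have hdW : d ∈ W := hQW hdQ
  have hit : ∀ k : ℕ, π ⟨apl (α ^ k) x, apl_mem _ hx⟩ = π ⟨x, hx⟩ * π ⟨d, hdW⟩ ^ k := by
    intro k
    induction k with
    | zero =>
      rw [pow_zero (π ⟨d, hdW⟩), mul_one]
      exact congrArg π (Subtype.ext (by
        show apl (α ^ 0) x = x
        rw [pow_zero, apl_one hx]))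
    | succ k ih =>
      have hαk := apl_mem (α ^ k) hx
      have e1 : (⟨apl (α ^ (k + 1)) x, apl_mem _ hx⟩ : W) = α ⟨apl (α ^ k) x, hαk⟩ :=
        Subtype.ext (by rw [← apl_apply α hαk, ← apl_mul _ _ hx, pow_succ'])
      have e2 : π (α ⟨x, hx⟩) = π ⟨x, hx⟩ * π ⟨d, hdW⟩ := by
        rw [← map_mul]
        refine congrArg π (Subtype.ext ?_)
        show ((α ⟨x, hx⟩ : W) : Ω) = x * d
        rw [← apl_apply α hx, hd, mul_inv_cancel_left]
      obtain ⟨y, hy, hye⟩ : ∃ y : W, y ∈ Y.subgroupOf W ∧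
          (⟨apl (α ^ k) x, hαk⟩ : W) = ⟨x, hx⟩ * ⟨d, hdW⟩ ^ k * y := by
        refine ⟨(⟨x, hx⟩ * ⟨d, hdW⟩ ^ k)⁻¹ * ⟨apl (α ^ k) x, hαk⟩, ?_, by group⟩
        rw [← QuotientGroup.eq]
        have := ih.symm
        rwa [← map_pow, ← map_mul] at this
      have hfixY : π (α y) = 1 := by
        refine (QuotientGroup.eq_one_iff _).2 (Subgroup.mem_subgroupOf.2 ?_)
        rw [← apl_coe α y]
        have h1 := Y.mul_mem (Subgroup.mem_subgroupOf.1 hy) (hQ _ (hYQ (Subgroup.mem_subgroupOf.1 hy)))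
        rwa [mul_inv_cancel_left] at h1
      have hfixd : π (α ⟨d, hdW⟩) = π ⟨d, hdW⟩ := by
        refine (hπ hdW (α ⟨d, hdW⟩).2 ?_).symm
        rw [← apl_apply α hdW]
        exact hQ d hdQ
      rw [e1, hye, map_mul, map_mul, map_mul, map_mul, hfixY, mul_one, map_pow, map_pow, hfixd, e2,
        mul_assoc, ← pow_succ']
  have h1 := hit (orderOf α)
  have e0 : (⟨apl (α ^ orderOf α) x, apl_mem _ hx⟩ : W) = ⟨x, hx⟩ :=
    Subtype.ext (by
      show apl (α ^ orderOf α) x = x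
      rw [pow_orderOf_eq_one, apl_one hx])
  rw [e0, left_eq_mul] at h1
  obtain ⟨k, hk⟩ := (hS.to_le hW) ⟨d, hdW⟩
  have h2 : π ⟨d, hdW⟩ = 1 := by
    refine eq_one_of_coprime (p := p) (k := k) (by rw [← map_pow, hk, map_one]) ?_
    exact Nat.Coprime.coprime_dvd_left (orderOf_dvd_of_pow_eq_one h1) hco
  rw [← hd]
  exact Subgroup.mem_subgroupOf.1 ((QuotientGroup.eq_one_iff _).1 h2)

/-! ### Composition of transports -/

theorem conjAut_comp {P' : Subgroup Ω} (hf : Iso F P Q f) (hg : Iso F Q P' g)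
    (h : Iso F P P' (g ∘ f)) (α : MulAut P) :
    hg.conjAut (hf.conjAut α) = h.conjAut α := apl_ext fun y hy => by
  obtain ⟨x, hx, rfl⟩ := h.exists_eq hy
  rw [h.conjAut_apl α hx]
  show apl _ (g (f x)) = g (f (apl α x))
  rw [hg.conjAut_apl _ (hf.mem hx), hf.conjAut_apl α hx]

theorem conjAut_congr (hf : Iso F P Q f) (hg : Iso F P Q g) (he : ∀ x ∈ P, f x = g x)
    (α : MulAut P) : hf.conjAut α = hg.conjAut α := apl_ext fun y hy => by
  obtain ⟨x, hx, rfl⟩ := hf.exists_eq hy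
  rw [hf.conjAut_apl α hx, he x hx, hg.conjAut_apl α hx, he _ (apl_mem α hx)]

theorem conjAut_inv (hf : Iso F P Q f) (hg : Iso F Q P g) (hgf : ∀ x ∈ P, g (f x) = x)
    (α : MulAut P) : hg.conjAut (hf.conjAut α) = α := apl_ext fun x hx => by
  have h1 := hg.conjAut_apl (hf.conjAut α) (hf.mem hx)
  rw [hgf x hx, hf.conjAut_apl α hx, hgf _ (apl_mem α hx)] at h1
  exact h1

theorem conjAut_apl_iso (hP : P ≤ S) {a : MulAut P} (ha : a ∈ F.autGroup P) (α : MulAut P) :
    (iso_apl hP ha).conjAut α = a * α * a⁻¹ := by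
  refine apl_ext fun y hy => ?_
  have hy' := apl_mem a⁻¹ hy
  conv_lhs => rw [← apl_apl_inv a hy]
  rw [(iso_apl hP ha).conjAut_apl α hy', apl_mul _ _ hy, apl_mul _ _ hy']

theorem orderOf_conjAut (hf : Iso F P Q f) (α : MulAut P) :
    orderOf (hf.conjAut α) = orderOf α := hf.conjAut.orderOf_eq α

end Cfsg.Agent.FusSys.AM
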