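import Cfsg.Agent.FusSys.AMap.Aut
import Cfsg.Agent.FusSys.CentralLift.KeyAux
import Cfsg.Agent.Fusion.Alperin

/-!
Extending elements of the family inside the normalizer.
-/

set_option autoImplicit false
set_option linter.unusedSectionVars false
set_option linter.style.haveILetI false
set_option linter.unusedVariables false
set_option maxHeartbeats 800000

namespace Cfsg.Agent.FusSys.AM

open Cfsg Cfsg.FusionSystem Cfsg.Agent.FusSys

universe u

variable {Ω : Type u} [Group Ω] {S T : Subgroup Ω} {F : FusionSystem S}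
variable {P Q R M : Subgroup Ω} {f g : Ω → Ω} {p : ℕ}
variable {A : ∀ P : Subgroup Ω, Subgroup (MulAut P)}

/-- The elements of `T` inducing on `P` members of `X`. -/
def pre (T P : Subgroup Ω) (X : Subgroup (MulAut P)) : Subgroup Ω where
  carrier := {t | t ∈ normalizerIn T P ∧ ∃ α ∈ X, ∀ x ∈ P, apl α x = t * x * t⁻¹}
  one_mem' := ⟨one_mem _, 1, one_mem _, fun x hx => by rw [apl_one hx]; group⟩
  mul_mem' := by
    rintro a b ⟨ha, α, hα, hαx⟩ ⟨hb, β, hβ, hβx⟩
    refine ⟨mul_mem ha hb, α * β, mul_mem hα hβ, fun x hx => ?_⟩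
    rw [apl_mul _ _ hx, hαx _ (apl_mem β hx), hβx x hx]
    group
  inv_mem' := by
    rintro a ⟨ha, α, hα, hαx⟩
    refine ⟨inv_mem ha, α⁻¹, inv_mem hα, fun x hx => ?_⟩
    have hy := apl_mem α⁻¹ hx
    conv_rhs => rw [← apl_apl_inv α hx, hαx _ hy]
    group

theorem pre_le {X : Subgroup (MulAut P)} : pre T P X ≤ normalizerIn T P := fun _ h => h.1

theorem le_pre (hP : P ≤ T) {X : Subgroup (MulAut P)} (hI : Inn P ≤ X) : P ≤ pre T P X := fun z hz =>
  ⟨le_normalizerIn hP hz, MulAut.conj ⟨z, hz⟩, hI ⟨_, rfl⟩, fun _ hx => apl_conj ⟨z, hz⟩ hx⟩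

theorem le_pre_ind (hM : M ≤ normalizerIn T P) : M ≤ pre T P (autInducedBy M P) := fun z hz => by
  obtain ⟨α, hα, hαx⟩ := exists_mem_autInducedBy (P := P) hz (hM hz).2
  exact ⟨hM hz, α, hα, hαx⟩

theorem autInducedBy_pre {X : Subgroup (MulAut P)} (hX : X ≤ autInducedBy T P) :
    autInducedBy (pre T P X) P = X := by
  refine le_antisymm (fun α hα => ?_) fun α hα => ?_
  · obtain ⟨t, ⟨-, β, hβ, hβx⟩, -, htx⟩ := mem_autInducedBy_iff.1 hα
    rwa [apl_ext fun x hx => (htx x hx).trans (hβx x hx).symm]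
  · obtain ⟨t, ht, htn, htx⟩ := mem_autInducedBy_iff.1 (hX hα)
    exact mem_autInducedBy_iff.2 ⟨t, ⟨⟨ht, htn⟩, α, hα, htx⟩, htn, htx⟩

namespace AMap

variable (h : AMap p F T A)
include h

/-- An element of `T` acting on the centric `P` as one of `M ≥ P` does lies in `M`. -/
theorem mem_of_act (hP : TC F T P) (hPM : P ≤ M) (hMT : M ≤ T) {t m : Ω} (ht : t ∈ T) (hm : m ∈ M)
    (hx : ∀ x ∈ P, t * x * t⁻¹ = m * x * m⁻¹) : t ∈ M := by
  have h1 : m⁻¹ * t ∈ P := hP.conj_fix h.sc (T.mul_mem (T.inv_mem (hMT hm)) ht) fun x hxP => by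
    calc m⁻¹ * t * x * (m⁻¹ * t)⁻¹ = m⁻¹ * (t * x * t⁻¹) * m := by group
      _ = x := by rw [hx x hxP]; group
  have := M.mul_mem hm (hPM h1)
  rwa [mul_inv_cancel_left] at this

variable [Fact p.Prime] [Finite S]

/-- Normalizing elements extend, when `Y ∩ N(X)` is a Sylow subgroup of the normalizer. -/
theorem liftable (hP : Top F T P) (hPM : P < M) (hM : M ≤ normalizerIn T P)
    (hs : SylIn p (autInducedBy T P ⊓ Subgroup.normalizer (autInducedBy M P : Set (MulAut P)))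
      (A P ⊓ Subgroup.normalizer (autInducedBy M P : Set (MulAut P))))
    {σ : MulAut P} (hσ : σ ∈ A P)
    (hn : σ ∈ Subgroup.normalizer (autInducedBy M P : Set (MulAut P))) :
    ∃ α ∈ A M, ∀ x ∈ P, apl α x = apl σ x := by
  haveI := h.finite_T
  haveI := finite_of_le hP.1.1
  haveI : Finite (MulAut P) := Finite.of_injective _ MulEquiv.toEquiv_injective
  have hMT : M ≤ T := hM.trans (normalizerIn_le _ _)
  have hTM : TC F T M := hP.1.mono hPM.le hMT
  obtain ⟨K, hK⟩ : ∃ K, K = A P ⊓ Subgroup.normalizer (autInducedBy M P : Set (MulAut P)) := ⟨_, rfl⟩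
  let L : Subgroup K :=
    { carrier := {κ | ∃ α ∈ A M, ∀ x ∈ P, apl α x = apl (κ : MulAut P) x}
      one_mem' := ⟨1, one_mem _, fun x hx => by rw [apl_one (hPM.le hx), Subgroup.coe_one, apl_one hx]⟩
      mul_mem' := by
        rintro a b ⟨α, hα, hαx⟩ ⟨β, hβ, hβx⟩
        refine ⟨α * β, mul_mem hα hβ, fun x hx => ?_⟩
        rw [apl_mul _ _ (hPM.le hx), hβx x hx, hαx _ (apl_mem _ hx), Subgroup.coe_mul, apl_mul _ _ hx]
      inv_mem' := by
        rintro a ⟨α, hα, hαx⟩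
        refine ⟨α⁻¹, inv_mem hα, fun x hx => ?_⟩
        have hy := apl_mem (a : MulAut P)⁻¹ hx
        have h1 := hαx _ hy
        rw [apl_apl_inv _ hx] at h1
        rw [Subgroup.coe_inv]
        conv_lhs => rw [← h1]
        rw [apl_inv_apl α (hPM.le hy)] }
  obtain ⟨U, hU⟩ := (sylIn_iff ((isPGroup_autInducedBy h.isP_T).to_le inf_le_left)
    hs.1).1 hs
  have htop : (⊤ : Subgroup K) ≤ L := by
    subst hK
    rw [← Cfsg.Agent.Fusion.sylow_sup_pResidual U, sup_le_iff]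
    constructor
    · rintro κ hκ
      rw [hU] at hκ
      obtain ⟨hκT : (κ : MulAut P) ∈ autInducedBy T P,
        hκn : (κ : MulAut P) ∈ Subgroup.normalizer (autInducedBy M P : Set (MulAut P))⟩ := hκ
      obtain ⟨t, ht, htn, htx⟩ := mem_autInducedBy_iff.1 hκT
      haveI := finite_of_le (hMT.trans h.sc.1)
      have htM : t ∈ Subgroup.normalizer (M : Set Ω) := mem_normalizer_of_conj_mem fun m hm => by
        obtain ⟨μ, hμ, hμx⟩ := exists_mem_autInducedBy (P := P) hm (hM hm).2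
        obtain ⟨m', hm', -, hm'x⟩ :=
          mem_autInducedBy_iff.1 ((Subgroup.mem_normalizer_iff.1 hκn _).1 hμ)
        refine h.mem_of_act hP.1 hPM.le hMT (T.mul_mem (T.mul_mem ht (hMT hm)) (T.inv_mem ht)) hm'
          fun x hx => ?_
        have hy : t⁻¹ * x * t ∈ P := (Subgroup.mem_normalizer_iff''.1 htn x).1 hx
        have hinv : apl (κ : MulAut P)⁻¹ x = t⁻¹ * x * t := by
          have h2 := apl_inv_apl (κ : MulAut P) hy
          rw [htx _ hy] at h2
          convert h2 using 2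
          group
        have hz : m * (t⁻¹ * x * t) * m⁻¹ ∈ P := (Subgroup.mem_normalizer_iff.1 (hM hm).2 _).1 hy
        rw [← hm'x x hx, apl_mul _ _ hx, apl_mul _ _ (apl_mem _ hx), hinv, hμx _ hy, htx _ hz]
        group
      obtain ⟨α, hα, hαx⟩ := exists_mem_autInducedBy (P := M) ht htM
      exact ⟨α, h.autT hTM hα, fun x hx => by rw [hαx x (hPM.le hx), htx x hx]⟩
    · rw [pResidual, Subgroup.closure_le]
      intro κ hκ
      refine h.lift_top hP hPM hM κ.2.1 (by rw [Subgroup.orderOf_coe]; exact hκ) fun τ hτ => ?_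
      exact (Subgroup.mem_normalizer_iff.1 κ.2.2 τ).1 hτ
  exact htop (Subgroup.mem_top (⟨σ, hK ▸ ⟨hσ, hn⟩⟩ : K))

/-- An element of the family extends to every subgroup of the normalizer which it carries into the
normalizer. -/
theorem ext_sigma (hP : Top F T P) : ∀ (M : Subgroup Ω) (σ : MulAut P), P ≤ M → M ≤ normalizerIn T P →
    σ ∈ A P → (∀ τ ∈ autInducedBy M P, σ * τ * σ⁻¹ ∈ autInducedBy T P) →
    ∃ e, Mor h.sys M e ∧ ∀ x ∈ P, e x = apl σ x := by
  haveI := h.finite_T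
  haveI := finite_of_le hP.1.1
  haveI : Finite (MulAut P) := Finite.of_injective _ MulEquiv.toEquiv_injective
  have hTp := h.isP_T
  have hYp : IsPGroup p (autInducedBy T P) := isPGroup_autInducedBy hTp
  have hYA := h.syl_top hP
  suffices H : ∀ n (M : Subgroup Ω) (σ : MulAut P), Nat.card T - Nat.card M = n → P ≤ M →
      M ≤ normalizerIn T P → σ ∈ A P → (∀ τ ∈ autInducedBy M P, σ * τ * σ⁻¹ ∈ autInducedBy T P) →
      ∃ e, Mor h.sys M e ∧ ∀ x ∈ P, e x = apl σ x from fun M σ => H _ M σ rfl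
  intro n
  induction n using Nat.strong_induction_on with
  | _ n ih =>
  intro M σ hn hPM hM hσ hconj
  rcases eq_or_lt_of_le hPM with rfl | hlt
  · exact ⟨_, h.mor_gen hP.1 hσ, fun x _ => rfl⟩
  have hMT : M ≤ T := hM.trans (normalizerIn_le _ _)
  have hXY : autInducedBy M P ≤ autInducedBy T P := autInducedBy_mono hMT
  rcases eq_or_lt_of_le hM with rfl | hMlt
  · have e : autInducedBy (normalizerIn T P) P = autInducedBy T P :=
      le_antisymm hXY fun α hα => by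
        obtain ⟨t, ht, htn, htx⟩ := mem_autInducedBy_iff.1 hα
        exact mem_autInducedBy_iff.2 ⟨t, ⟨ht, htn⟩, htn, htx⟩
    have hσn : σ ∈ Subgroup.normalizer (autInducedBy T P : Set (MulAut P)) :=
      mem_normalizer_of_conj_mem fun τ hτ => hconj τ (e.ge hτ)
    obtain ⟨α, hα, hαx⟩ := h.liftable hP hlt le_rfl (by
      rw [e, inf_eq_left.2 Subgroup.le_normalizer]
      exact sylIn_mono hYA (le_inf hYA.1 Subgroup.le_normalizer) inf_le_left) hσ (e.symm ▸ hσn)
    exact ⟨_, h.mor_gen (hP.1.mono hlt.le (normalizerIn_le _ _)) hα, hαx⟩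
  -- the general case
  obtain ⟨X, hX⟩ : ∃ X, X = autInducedBy M P := ⟨_, rfl⟩
  rw [← hX] at hXY hconj
  obtain ⟨X₁, hX₁⟩ : ∃ X₁, X₁ = X.map (MulAut.conj σ).toMonoidHom := ⟨_, rfl⟩
  have hX₁Y : X₁ ≤ autInducedBy T P := by
    rw [hX₁]; rintro _ ⟨τ, hτ, rfl⟩; exact hconj τ hτ
  have hinnX : Inn P ≤ X := hX ▸ inn_eq_autInducedBy.le.trans (autInducedBy_mono hPM)
  obtain ⟨Q, hQY, ⟨w, hw, hwQ⟩, htarget⟩ := CL.exists_target hYp hYA hXY
  have hpreX : pre T P X = M := le_antisymm (fun t ht => by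
    obtain ⟨htN, α, hα, hαx⟩ := ht
    obtain ⟨m, hm, -, hmx⟩ := mem_autInducedBy_iff.1 (hX ▸ hα : α ∈ autInducedBy M P)
    exact h.mem_of_act hP.1 hPM hMT htN.1 hm fun x hx => (hαx x hx).symm.trans (hmx x hx))
    (hX ▸ le_pre_ind hM)
  have hmapcomp : ∀ (a b : MulAut P) (Z : Subgroup (MulAut P)),
      Z.map (MulAut.conj (a * b)).toMonoidHom =
        (Z.map (MulAut.conj b).toMonoidHom).map (MulAut.conj a).toMonoidHom := fun a b Z => by
    rw [Subgroup.map_map]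
    congr 1
  -- extensions carrying to the target
  have side : ∀ (Z : Subgroup (MulAut P)) (u : MulAut P), Z ≤ autInducedBy T P → Inn P ≤ Z →
      Nat.card M ≤ Nat.card (pre T P Z) → Z < autInducedBy T P → u ∈ A P →
      Z.map (MulAut.conj u).toMonoidHom = Q →
      (∀ x ∈ autInducedBy T P ⊓ Subgroup.normalizer (Z : Set (MulAut P)),
        u * x * u⁻¹ ∈ autInducedBy T P) →
      ∃ e, Iso h.sys (pre T P Z) (pre T P Q) e ∧ ∀ x ∈ P, e x = apl u x := by
    intro Z u hZ hIZ hcard hZlt hu huQ hun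
    let Z' : Subgroup (MulAut P) := autInducedBy T P ⊓ Subgroup.normalizer (Z : Set (MulAut P))
    have hZZ' : Z < Z' := Cfsg.Agent.Fusion.lt_inf_normalizer_of_isPGroup hYp hZlt
    have hle : pre T P Z ≤ pre T P Z' := fun t ⟨ht, α, hα, hαx⟩ => ⟨ht, α, hZZ'.le hα, hαx⟩
    have hne : pre T P Z ≠ pre T P Z' := fun e => hZZ'.ne (by
      have h1 := autInducedBy_pre (T := T) hZ
      rw [e, autInducedBy_pre (T := T) (inf_le_left : Z' ≤ autInducedBy T P)] at h1
      exact h1.symm)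
    have hlt' := card_lt_of_lt' ((pre_le (T := T) (X := Z')).trans (normalizerIn_le _ _))
      (lt_of_le_of_ne hle hne)
    obtain ⟨e, he, hex⟩ := ih (Nat.card T - Nat.card (pre T P Z')) (by
        have h6 : Nat.card (pre T P Z') ≤ Nat.card T :=
          Subgroup.card_le_of_le ((pre_le (T := T) (X := Z')).trans (normalizerIn_le _ _))
        omega) (pre T P Z') u rfl ((le_pre hP.1.1 hIZ).trans hle) pre_le hu fun τ hτ => by
      rw [autInducedBy_pre (T := T) (inf_le_left : Z' ≤ autInducedBy T P)] at hτ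
      exact hun τ hτ
    have hem := he.mono hle
    have hPZ : P ≤ pre T P Z := le_pre hP.1.1 hIZ
    have hiP : Iso h.sys P P e :=
      ⟨hem.mono hPZ, fun y => ⟨fun hy => ⟨apl u⁻¹ y, apl_mem _ hy, by
        rw [hex _ (apl_mem _ hy), apl_apl_inv u hy]⟩, fun ⟨x, hx, hxy⟩ => by
        rw [← hxy, hex x hx]; exact apl_mem u hx⟩⟩
    -- conjugation is transported
    have hact : ∀ t ∈ pre T P Z, ∀ α : MulAut P, (∀ x ∈ P, apl α x = t * x * t⁻¹) →
        ∀ x ∈ P, apl (u * α * u⁻¹) x = e t * x * (e t)⁻¹ := by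
      intro t ht α hα x hx
      have hy := apl_mem u⁻¹ hx
      have hz : t * apl u⁻¹ x * t⁻¹ ∈ P := (Subgroup.mem_normalizer_iff.1 ht.1.2 _).1 hy
      rw [apl_mul _ _ hx, apl_mul _ _ hy, hα _ hy, ← hex _ hz, hem.map_conj ht (hPZ hy),
        hex _ hy, apl_apl_inv u hx]
    refine ⟨e, ⟨hem, fun y => ⟨fun hy => ?_, ?_⟩⟩, hex⟩
    · obtain ⟨hyN, β, hβ, hβy⟩ := hy
      rw [← huQ] at hβ
      obtain ⟨α, hα, hαβ⟩ := hβ
      obtain ⟨t, ht, htn, htx⟩ := mem_autInducedBy_iff.1 (hZ hα)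
      have htZ : t ∈ pre T P Z := ⟨⟨ht, htn⟩, α, hα, htx⟩
      have h2 : (e t)⁻¹ * y ∈ P := hP.1.conj_fix h.sc
        (T.mul_mem (T.inv_mem (hem.mem_S htZ)) hyN.1) fun x hx => by
          calc (e t)⁻¹ * y * x * ((e t)⁻¹ * y)⁻¹ = (e t)⁻¹ * (y * x * y⁻¹) * e t := by group
            _ = x := by
              rw [← hβy x hx, ← hαβ, show (MulAut.conj u).toMonoidHom α = u * α * u⁻¹ from rfl,
                hact t htZ α htx x hx]
              group
      obtain ⟨v, hv, hve⟩ := hiP.exists_eq h2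
      exact ⟨t * v, Subgroup.mul_mem _ htZ (hPZ hv), by
        rw [hem.map_mul htZ (hPZ hv), hve]; group⟩
    · rintro ⟨t, htZ, rfl⟩
      obtain ⟨htN, α, hα, hαx⟩ := id htZ
      refine ⟨⟨hem.mem_S htZ, (hem.mem_normalizerIn hPZ hiP htZ htN.2).2⟩, u * α * u⁻¹,
        huQ ▸ ⟨α, hα, rfl⟩, hact t htZ α hαx⟩
  have hXlt : X < autInducedBy T P := by
    refine lt_of_le_of_ne hXY fun e => hMlt.not_ge fun t ht => ?_
    obtain ⟨α, hα, hαx⟩ := exists_mem_autInducedBy (P := P) ht.1 ht.2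
    exact hpreX.le ⟨ht, α, e.ge hα, hαx⟩
  have hσA : σ⁻¹ ∈ A P := inv_mem hσ
  obtain ⟨u₁, hu₁, hu₁Q, hu₁n⟩ := htarget X w hw hXY hwQ
  have hσX : X₁.map (MulAut.conj σ⁻¹).toMonoidHom = X := by
    rw [hX₁, ← hmapcomp, inv_mul_cancel, map_one]
    exact Subgroup.map_id X
  obtain ⟨u₂, hu₂, hu₂Q, hu₂n⟩ := htarget X₁ (w * σ⁻¹) (mul_mem hw hσA) hX₁Y
    (by rw [hmapcomp, hσX, hwQ])
  have hIX₁ : Inn P ≤ X₁ := by
    rw [hX₁, ← CL.inn_map_conj σ]
    exact Subgroup.map_mono hinnX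
  have hcX : Nat.card X₁ = Nat.card X := by
    rw [hX₁]; exact Subgroup.card_map_of_injective (MulAut.conj σ).injective
  have hX₁lt : X₁ < autInducedBy T P := lt_of_le_of_ne hX₁Y fun e => hXlt.ne
    (Subgroup.eq_of_le_of_card_ge hXY (by rw [← hcX, e]))
  obtain ⟨e₁, he₁, he₁x⟩ := side X u₁ hXY hinnX (by rw [hpreX]) hXlt hu₁ hu₁Q hu₁n
  have hpreQ : Nat.card M = Nat.card (pre T P Q) := by rw [← he₁.card_eq, hpreX]
  have hcM : Nat.card M ≤ Nat.card (pre T P X₁) := by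
    -- both preimages have the order of their image times that of the centre of `P`
    have hz : ∀ Z : Subgroup (MulAut P), Z ≤ autInducedBy T P → Inn P ≤ Z →
        Nat.card Z * Nat.card (centralizerIn T P) = Nat.card (pre T P Z) := by
      intro Z hZ hIZ
      have h1 := card_autInducedBy_mul (K := pre T P Z) (P := P)
      rw [autInducedBy_pre hZ] at h1
      have e1 : centralizerIn (pre T P Z) P = centralizerIn T P := le_antisymm
        (inf_le_inf_right _ (pre_le.trans (normalizerIn_le _ _)))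
        (le_inf ((hP.1.self h.sc).trans (le_pre hP.1.1 hIZ)) inf_le_right)
      have e2 : normalizerIn (pre T P Z) P = pre T P Z :=
        le_antisymm inf_le_left (le_inf le_rfl fun t ht => ht.1.2)
      rwa [e1, e2] at h1
    rw [← hz X₁ hX₁Y hIX₁, hcX, hz X hXY hinnX, hpreX]
  obtain ⟨e₂, he₂, he₂x⟩ := side X₁ u₂ hX₁Y hIX₁ hcM hX₁lt hu₂ hu₂Q hu₂n
  rw [hpreX] at he₁
  have hPQ : P ≤ pre T P Q := le_pre hP.1.1 (by
    rw [← hu₁Q, ← CL.inn_map_conj u₁]
    exact Subgroup.map_mono hinnX)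
  have hPQlt : P < pre T P Q := lt_of_le_of_ne hPQ fun e => by
    have := card_lt_of_lt' hMT hlt
    rw [hpreQ, ← e] at this
    exact lt_irrefl _ this
  -- the middle part
  obtain ⟨μ, hμ⟩ : ∃ μ, μ = u₂ * σ * u₁⁻¹ := ⟨_, rfl⟩
  have hμA : μ ∈ A P := hμ ▸ mul_mem (mul_mem hu₂ hσ) (inv_mem hu₁)
  have hμQ : Q.map (MulAut.conj μ).toMonoidHom = Q := by
    rw [hμ, hmapcomp]
    have h1 : Q.map (MulAut.conj u₁⁻¹).toMonoidHom = X := by
      rw [← hu₁Q, ← hmapcomp, inv_mul_cancel, map_one]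
      exact Subgroup.map_id X
    rw [h1, hmapcomp, ← hX₁, hu₂Q]
  have hind : autInducedBy (pre T P Q) P = Q := autInducedBy_pre hQY
  have hμn : μ ∈ Subgroup.normalizer (Q : Set (MulAut P)) :=
    mem_normalizer_of_conj_mem fun τ hτ => hμQ.le ⟨τ, hτ, rfl⟩
  have hsy : SylIn p (autInducedBy T P ⊓ Subgroup.normalizer (Q : Set (MulAut P)))
      (A P ⊓ Subgroup.normalizer (Q : Set (MulAut P))) := by
    obtain ⟨R, hR, hRs⟩ := exists_sylIn p (A P ⊓ Subgroup.normalizer (Q : Set (MulAut P)))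
    obtain ⟨m, hm, hmR⟩ := exists_conj_mem_of_sylIn hYp hYA hR (hRs.1.trans inf_le_left)
    have hQR : Q ≤ R := by
      obtain ⟨l, hl, hlQ⟩ := exists_conj_mem_of_sylIn hR hRs (hYp.to_le hQY)
        (le_inf (hQY.trans hYA.1) Subgroup.le_normalizer)
      intro y hy
      have h1 := hlQ _ ((Subgroup.mem_normalizer_iff''.1 hl.2 y).1 hy)
      convert h1 using 1
      group
    obtain ⟨u, hu, huQ, hun⟩ := htarget (Q.map (MulAut.conj m).toMonoidHom) m⁻¹ (inv_mem hm)
      (by rintro _ ⟨y, hy, rfl⟩; exact hmR y (hQR hy))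
      (by rw [← hmapcomp, inv_mul_cancel, map_one]; exact Subgroup.map_id Q)
    refine sylIn_of_card_le hR hRs (inf_le_inf_right _ hYA.1) (le_antisymm
      (card_le_of_sylIn hR hRs (hYp.to_le inf_le_left) (inf_le_inf_right _ hYA.1)) ?_)
    rw [← Subgroup.card_map_of_injective (f := (MulAut.conj (u * m)).toMonoidHom) (K := R)
      (MulAut.conj (u * m)).injective]
    refine Subgroup.card_le_of_le ?_
    rintro _ ⟨r, hr, rfl⟩
    have h1 : m * r * m⁻¹ ∈ autInducedBy T P ⊓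
        Subgroup.normalizer (Q.map (MulAut.conj m).toMonoidHom : Set (MulAut P)) :=
      ⟨hmR r hr, Subgroup.le_normalizer_map (MulAut.conj m).toMonoidHom
        (Subgroup.mem_map_of_mem _ (hRs.1 hr).2)⟩
    refine ⟨?_, ?_⟩
    · show u * m * r * (u * m)⁻¹ ∈ autInducedBy T P
      convert hun _ h1 using 1
      group
    · have h2 := Subgroup.le_normalizer_map (MulAut.conj u).toMonoidHom
        (Subgroup.mem_map_of_mem _ h1.2)
      rw [huQ] at h2
      show u * m * r * (u * m)⁻¹ ∈ Subgroup.normalizer (Q : Set (MulAut P))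
      convert h2 using 1
      simp only [MulEquiv.coe_toMonoidHom, MulAut.conj_apply]
      group
  obtain ⟨α, hα, hαx⟩ := h.liftable hP hPQlt pre_le (by rwa [hind]) hμA (by rwa [hind])
  have hTQ : TC F T (pre T P Q) := hP.1.mono hPQ (pre_le.trans (normalizerIn_le _ _))
  have hαi := iso_apl hTQ.1 (h.le_autGroup_sys hTQ hα)
  obtain ⟨e₃, he₃, he₃e, -⟩ := he₂.symm
  refine ⟨e₃ ∘ (apl α ∘ e₁), ((he₁.comp hαi).comp he₃).1, fun x hx => ?_⟩
  show e₃ (apl α (e₁ x)) = apl σ x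
  rw [he₁x x hx, hαx _ (apl_mem u₁ hx), hμ, apl_mul _ _ (apl_mem u₁ hx), apl_inv_apl u₁ hx,
    apl_mul _ _ hx, ← he₂x _ (apl_mem σ hx), he₃e _ (le_pre hP.1.1 hIX₁ (apl_mem σ hx))]

end AMap

end Cfsg.Agent.FusSys.AM
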