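import Cfsg.Agent.FusSys.AMap.Basic
import Cfsg.Agent.FusSys.InvariantCrit
import Cfsg.Agent.FusSys.TransportNormal

/-!
An invariant family of automorphism groups on the `T`-centric subgroups of a strongly closed `T`;
the subsystem it generates, its invariance, and the Frattini condition.
-/

set_option autoImplicit false
set_option linter.unusedSectionVars false
set_option linter.style.haveILetI false
set_option linter.unusedVariables false
set_option maxHeartbeats 400000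

namespace Cfsg.Agent.FusSys.AM

open Cfsg Cfsg.FusionSystem Cfsg.Agent.FusSys

universe u

variable {Ω : Type u} [Group Ω] {S T : Subgroup Ω} {F : FusionSystem S}
variable {P Q R : Subgroup Ω} {f g : Ω → Ω} {p : ℕ}

/-- An invariant family of automorphism groups. -/
structure AMap (p : ℕ) (F : FusionSystem S) (T : Subgroup Ω)
    (A : ∀ P : Subgroup Ω, Subgroup (MulAut P)) : Prop where
  pS : IsPGroup p S
  sat : F.IsSaturated p
  sc : F.StronglyClosed T
  le : ∀ {P : Subgroup Ω}, TC F T P → A P ≤ F.autGroup P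
  autT : ∀ {P : Subgroup Ω}, TC F T P → autInducedBy T P ≤ A P
  equiv : ∀ {P Q : Subgroup Ω} {f : Ω → Ω} (h : Iso F P Q f), TC F T P →
    ∀ {α : MulAut P}, α ∈ A P → h.conjAut α ∈ A Q
  syl : ∀ {P : Subgroup Ω}, TC F T P → F.IsFullyNormalized P →
    SylIn p (autInducedBy T P) (A P)
  restr : ∀ {R Y : Subgroup Ω} {α : MulAut Y}, TC F T R → R < Y → Y ≤ normalizerIn T R →
    α ∈ A Y → Iso F R R (apl α) → ∃ β ∈ A R, ∀ x ∈ R, apl β x = apl α x
  lift : ∀ {R M : Subgroup Ω} {σ : MulAut R}, TC F T R → F.IsFullyNormalized R → R < M →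
    M ≤ normalizerIn T R → σ ∈ A R → (orderOf σ).Coprime p →
    (∀ τ ∈ autInducedBy M R, σ * τ * σ⁻¹ ∈ autInducedBy M R) →
    ∃ α ∈ A M, ∀ x ∈ R, apl α x = apl σ x

variable {A : ∀ P : Subgroup Ω, Subgroup (MulAut P)}

/-- The maps generated by the family. -/
def GenRel (F : FusionSystem S) (T : Subgroup Ω) (A : ∀ P : Subgroup Ω, Subgroup (MulAut P))
    (P : Subgroup Ω) (f : Ω → Ω) : Prop :=
  Mor F P f ∧ ∀ M : Subgroup Ω → (Ω → Ω) → Prop, SubRel F T M →
    (∀ R α, TC F T R → α ∈ A R → M R (apl α)) → M P f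

theorem subRel_mapsT (hT : F.StronglyClosed T) : SubRel F T
    (fun P f => P ≤ T ∧ ∀ x ∈ P, f x ∈ T) where
  congr h1 he := ⟨h1.1, fun x hx => by rw [he x hx]; exact h1.2 x hx⟩
  le h1 := h1
  conj hP hs := ⟨mor_conj (hP.trans hT.1) (hT.1 hs), hP, fun _ hx =>
    T.mul_mem (T.mul_mem hs (hP hx)) (T.inv_mem hs)⟩
  comp _ h1 _ h2 hfQ := ⟨h1.1, fun x hx => h2.2 _ (hfQ x hx)⟩
  inv hf h1 hg hgf := ⟨fun y hy => by
      obtain ⟨x, hx, rfl⟩ := hf.exists_eq hy; exact h1.2 x hx,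
    fun y hy => h1.1 (hg.mem hy)⟩

theorem subRel_genRel (hT : F.StronglyClosed T) : SubRel F T (GenRel F T A) where
  congr h1 he := ⟨h1.1.congr he, fun M hM hgen => hM.congr (h1.2 M hM hgen) he⟩
  le h1 := h1.2 _ (subRel_mapsT hT) fun _ α hR _ => ⟨hR.1, fun _ hx => hR.1 (apl_mem α hx)⟩
  conj hP hs := ⟨mor_conj (hP.trans hT.1) (hT.1 hs), mor_conj (hP.trans hT.1) (hT.1 hs),
    fun M hM _ => (hM.conj hP hs).2⟩
  comp hf h1 hg h2 hfQ := ⟨hf.comp hg hfQ,
    fun M hM hgen => hM.comp hf (h1.2 M hM hgen) hg (h2.2 M hM hgen) hfQ⟩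
  inv hf h1 hg hgf := ⟨hg.1, fun M hM hgen => hM.inv hf (h1.2 M hM hgen) hg hgf⟩

namespace AMap

variable (h : AMap p F T A)
include h

/-- The generated system. -/
def sys : FusionSystem T := subSys (subRel_genRel (A := A) h.sc)

theorem mor_sys : Mor h.sys P f ↔ GenRel F T A P f :=
  (mor_subSys _).trans ⟨And.right, fun h1 => ⟨h1.1, h1⟩⟩

theorem sys_mor_F (hf : Mor h.sys P f) : Mor F P f := (h.mor_sys.1 hf).1

theorem sys_iso_F (hf : Iso h.sys P Q f) : Iso F P Q f := ⟨h.sys_mor_F hf.1, hf.2⟩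

theorem sys_sub : h.sys.IsSubsystemOf F := fun _ φ hφ =>
  (h.sys_mor_F (mor_extendFn hφ)).hom_eq fun x => (extendFn_coe φ x).symm

theorem mor_gen (hR : TC F T R) {α : MulAut R} (hα : α ∈ A R) : Mor h.sys R (apl α) :=
  h.mor_sys.2 ⟨(iso_apl (hR.1.trans h.sc.1) (h.le hR hα)).1, fun _ _ hgen => hgen R α hR hα⟩

theorem le_autGroup_sys (hR : TC F T R) : A R ≤ h.sys.autGroup R := fun α hα =>
  Subgroup.subset_closure ((h.mor_gen hR hα).hom_eq fun x => (apl_coe α x).symm)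

/-- The image of `P` under an automorphism of `T`. -/
theorem iso_image_top {β : MulAut T} (hβ : β ∈ F.autGroup T) (hP : P ≤ T) :
    Iso F P ((P.subgroupOf T).map (T.subtype.comp β.toMonoidHom)) (apl β) :=
  ⟨(iso_apl h.sc.1 hβ).1.mono hP, fun _ => map_apl_eq hP⟩

/-- The relation of being transported by every automorphism of `T`. -/
theorem subRel_tr : SubRel F T (fun P f => P ≤ T ∧ (∀ x ∈ P, f x ∈ T) ∧ ∀ β ∈ F.autGroup T,
    ∃ k, GenRel F T A ((P.subgroupOf T).map (T.subtype.comp β.toMonoidHom)) k ∧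
      ∀ x ∈ P, k (apl β x) = apl β (f x)) where
  congr := by
    rintro P f g ⟨h1, h2, h3⟩ he
    refine ⟨h1, fun x hx => by rw [he x hx]; exact h2 x hx, fun β hβ => ?_⟩
    obtain ⟨k, hk, hkx⟩ := h3 β hβ
    exact ⟨k, hk, fun x hx => by rw [he x hx]; exact hkx x hx⟩
  le h1 := ⟨h1.1, h1.2.1⟩
  conj := by
    intro P s hP hs
    refine ⟨mor_conj (hP.trans h.sc.1) (h.sc.1 hs), hP, fun x hx =>
      T.mul_mem (T.mul_mem hs (hP hx)) (T.inv_mem hs), fun β hβ => ?_⟩
    refine ⟨fun y => apl β s * y * (apl β s)⁻¹,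
      ((subRel_genRel (A := A) h.sc).conj (iso_le_T h.sc (h.iso_image_top hβ hP) hP)
        (apl_mem β hs)).2, fun x hx => ?_⟩
    exact ((iso_apl (F := F) h.sc.1 hβ).1.map_conj hs (hP hx)).symm
  comp := by
    rintro P Q f g hf ⟨h1, h2, h3⟩ hg ⟨h1', h2', h3'⟩ hfQ
    refine ⟨h1, fun x hx => h2' _ (hfQ x hx), fun β hβ => ?_⟩
    obtain ⟨k, hk, hkx⟩ := h3 β hβ
    obtain ⟨l, hl, hlx⟩ := h3' β hβ
    have hm : ∀ y ∈ (P.subgroupOf T).map (T.subtype.comp β.toMonoidHom),
        k y ∈ (Q.subgroupOf T).map (T.subtype.comp β.toMonoidHom) := fun y hy => by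
      obtain ⟨x, hx, rfl⟩ := (map_apl_eq h1).1 hy
      exact (map_apl_eq h1').2 ⟨f x, hfQ x hx, (hkx x hx).symm⟩
    refine ⟨l ∘ k, (subRel_genRel h.sc).comp hk.1 hk hl.1 hl hm, fun x hx => ?_⟩
    show l (k _) = _
    rw [hkx x hx, hlx _ (hfQ x hx)]
    rfl
  inv := by
    rintro P Q f g hf ⟨h1, h2, h3⟩ hg hgf
    have hQT : Q ≤ T := fun y hy => by
      obtain ⟨x, hx, rfl⟩ := hf.exists_eq hy; exact h2 x hx
    refine ⟨hQT, fun y hy => h1 (hg.mem hy), fun β hβ => ?_⟩
    obtain ⟨k, hk, hkx⟩ := h3 β hβ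
    obtain ⟨R, hR⟩ := hk.1.exists_iso
    obtain ⟨l, hl, hlk, -⟩ := hR.symm
    have hle : (Q.subgroupOf T).map (T.subtype.comp β.toMonoidHom) ≤ R := fun y hy => by
      obtain ⟨z, hz, rfl⟩ := (map_apl_eq hQT).1 hy
      obtain ⟨x, hx, rfl⟩ := hf.exists_eq hz
      rw [← hkx x hx]
      exact hR.mem ((map_apl_eq h1).2 ⟨x, hx, rfl⟩)
    have hl' : GenRel F T A R l := (subRel_genRel h.sc).inv hR hk hl hlk
    refine ⟨l, h.mor_sys.1 ((h.mor_sys.2 hl').mono hle), fun y hy => ?_⟩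
    obtain ⟨x, hx, rfl⟩ := hf.exists_eq hy
    rw [← hkx x hx, hlk _ ((map_apl_eq h1).2 ⟨x, hx, rfl⟩), hgf x hx]

theorem transInv : TransInv h.sys F := by
  intro P f hf β hβ
  obtain ⟨-, -, h3⟩ := (h.mor_sys.1 hf).2 _ h.subRel_tr fun R α hR hα =>
    ⟨hR.1, fun x hx => hR.1 (apl_mem α hx), fun β hβ => by
      have hi := h.iso_image_top hβ hR.1
      exact ⟨apl (hi.conjAut α), h.mor_sys.1 (h.mor_gen (hR.of_iso h.sc hi) (h.equiv hi hR hα)),
        fun x hx => hi.conjAut_apl α hx⟩⟩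
  obtain ⟨k, hk, hkx⟩ := h3 β hβ
  exact ⟨k, h.mor_sys.2 hk, hkx⟩

variable [Fact p.Prime] [Finite S]

theorem finite_T : Finite T := finite_of_le h.sc.1

theorem isP_T : IsPGroup p T := h.pS.to_le h.sc.1

/-- A fully centralized subgroup of `T` containing its centralizer there is centric in `T`. -/
theorem tc_of_fullyCentralized (hP : F.IsFullyCentralized P) (hPT : P ≤ T)
    (hC : centralizerIn T P ≤ P) : TC F T P := by
  refine ⟨hPT, fun Q hQ c hc => ?_⟩
  obtain ⟨g, hg⟩ := isConj_iff.1 (isConj_symm hQ)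
  obtain ⟨k, hk, hkg⟩ := (isReceptive_iff.1 (receptive_of_fullyCentralized h.pS h.sat hP)).2 Q g hg
  have hcC : c ∈ centralizerIn S Q := ⟨h.sc.1 hc.1, hc.2⟩
  have hcN := centralizerIn_le_nPhi (f := g) hcC
  have h1 : k c ∈ centralizerIn T P := ⟨StronglyClosed.mor_mem h.sc hk hcN hc.1,
    (hk.mem_centralizerIn hg.1.le_nPhi (hg.congr hkg) hcN hc.2).2⟩
  obtain ⟨x, hx, hxe⟩ := hg.exists_eq (hC h1)
  rw [← hkg x hx] at hxe
  exact hk.injOn (hg.1.le_nPhi hx) hcN hxe ▸ hx

/-- The Frattini condition. -/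
theorem frattini : ∀ (P : Subgroup Ω), P ≤ T → ∀ f, Mor F P f → FrattiniRel h.sys F P f := by
  haveI := h.finite_T
  have hS := h.pS
  have hF := h.sat
  have hT := h.sc
  have hC : TransInv h.sys F := h.transInv
  suffices H : ∀ d, ∀ P : Subgroup Ω, P ≤ T → Nat.card T - Nat.card P ≤ d → ∀ f, Mor F P f →
      FrattiniRel h.sys F P f from fun P hP f hf => H _ P hP le_rfl f hf
  intro d
  induction d using Nat.strong_induction_on with
  | _ d ih =>
    intro P hP hd f hf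
    by_cases hPT : P = T
    · subst hPT
      obtain ⟨β, hβ, hβx⟩ := (StronglyClosed.iso_self hT hf le_rfl).exists_mem_autGroup
      exact ⟨β, hβ, id, mor_id le_rfl, fun x hx => (hβx x hx).symm⟩
    have hPS : P ≤ S := hP.trans hT.1
    obtain ⟨P₁, k, hP₁n, hk, hki, -⟩ := exists_fullyNormalized_mor hS hF hPS
    have hP₁T : P₁ ≤ T := iso_le_T hT hki hP
    have hbig : ∀ R D g, R ≤ T → Nat.card R = Nat.card P → R < D → D ≤ T → Mor F D g →
        FrattiniRel h.sys F R g := fun R D g hR hc hlt hD hg => by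
      refine FrattiniRel.mono (ih (Nat.card T - Nat.card D) ?_ D hD le_rfl g hg) hlt.le
      have h1 := card_lt_of_lt' (hD.trans hT.1) hlt
      have h2 : Nat.card D ≤ Nat.card T := Subgroup.card_le_of_le hD
      omega
    have hlt : ∀ R : Subgroup Ω, R ≤ T → Nat.card R = Nat.card P → R < normalizerIn T R := by
      intro R hR hc
      refine lt_inf_normalizer (h.isP_T) le_rfl (lt_of_le_of_ne hR fun e => hPT ?_)
      exact Subgroup.eq_of_le_of_card_ge hP (le_of_eq (e ▸ hc))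
    have hstep : ∀ R g, R ≤ T → Nat.card R = Nat.card P → Mor F (normalizerIn S R) g →
        FrattiniRel h.sys F R g := fun R g hR hc hg =>
      hbig R _ g hR hc (hlt R hR hc) (normalizerIn_le _ _) (hg.mono (inf_le_inf_right _ hT.1))
    obtain ⟨P₂, hP₂⟩ := hf.exists_iso
    have hP₂T : P₂ ≤ T := iso_le_T hT hP₂ hP
    obtain ⟨k₂, hk₂, hk₂i, -⟩ :=
      exists_mor_to_fullyNormalized hS hF hP₁n (isConj_trans (isConj_symm hP₂.isConj) hki.isConj)
    have hF1 : FrattiniRel h.sys F P k := hstep P k hP rfl hk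
    have hF2 : FrattiniRel h.sys F P₂ k₂ := hstep P₂ k₂ hP₂T hP₂.card_eq.symm hk₂
    obtain ⟨k', hk', hk'l, hk'r⟩ := hki.symm
    obtain ⟨k₂', hk₂', hk₂'l, -⟩ := hk₂i.symm
    obtain ⟨a, ha, hax⟩ := ((hk'.comp hP₂).comp hk₂i).exists_mem_autGroup
    haveI := finite_of_le hP₁n.1
    haveI : Finite (MulAut P₁) := Finite.of_injective _ MulEquiv.toEquiv_injective
    have hc₁ : Nat.card P₁ = Nat.card P := hki.card_eq.symm
    have hFa : FrattiniRel h.sys F P₁ (apl a) := by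
      have hai := iso_apl (F := F) hP₁n.1 ha
      by_cases hC₁ : centralizerIn T P₁ ≤ P₁
      · have hTC : TC F T P₁ := h.tc_of_fullyCentralized
          (fullyCentralized_of_fullyNormalized hS hF hP₁n) hP₁T hC₁
        let N : Subgroup (F.autGroup P₁) := (A P₁).subgroupOf (F.autGroup P₁)
        haveI hN : N.Normal := ⟨fun e he b => by
          rw [Subgroup.mem_subgroupOf] at he ⊢
          have h1 := h.equiv (iso_apl hP₁n.1 b.2) hTC he
          rw [conjAut_apl_iso hP₁n.1 b.2] at h1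
          simpa using h1⟩
        have hsy := h.syl hTC hP₁n
        obtain ⟨U, hU⟩ : ∃ U : Sylow p N, (U : Subgroup N) =
            ((autInducedBy T P₁).subgroupOf (F.autGroup P₁)).subgroupOf N := by
          refine ⟨(((isPGroup_autInducedBy h.isP_T).comap_subtype).comap_subtype :
            IsPGroup p _).toSylow fun hd => hsy.2 ?_, rfl⟩
          have e : ((autInducedBy T P₁).subgroupOf (F.autGroup P₁)).relIndex N =
              (autInducedBy T P₁).relIndex (A P₁) := Subgroup.relIndex_subgroupOf (h.le hTC)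
          exact e ▸ hd
        have hfr := Sylow.normalizer_sup_eq_top U
        rw [hU, Subgroup.subgroupOf_map_subtype, inf_eq_left.2 (show
          (autInducedBy T P₁).subgroupOf (F.autGroup P₁) ≤ N from fun _ hb => h.autT hTC hb)] at hfr
        have ham : (⟨a, ha⟩ : F.autGroup P₁) ∈ (⊤ : Subgroup (F.autGroup P₁)) := Subgroup.mem_top _
        rw [← hfr, Subgroup.mem_sup_of_normal_right] at ham
        obtain ⟨n, hn, e, he, hne⟩ := ham
        have hFe : FrattiniRel h.sys F P₁ (apl (e : MulAut P₁)) :=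
          ⟨1, Subgroup.one_mem _, _, h.mor_gen hTC he, fun x hx =>
            (apl_one (hP₁T (apl_mem _ hx))).symm⟩
        have hFn : FrattiniRel h.sys F P₁ (apl (n : MulAut P₁)) := by
          have hni := iso_apl (F := F) hP₁n.1 n.2
          obtain ⟨g, hg, hgn⟩ :=
            (isReceptive_iff.1 (receptive_of_fullyNormalized hS hF hP₁n)).2 P₁ _ hni
          have hle : normalizerIn T P₁ ≤ nPhi S P₁ (apl (n : MulAut P₁)) := by
            rintro t ⟨htT, htn⟩
            obtain ⟨c, hc, hcx⟩ := exists_mem_autInducedBy (K := T) (P := P₁) htT htn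
            have hcU : (⟨c, h.le hTC (h.autT hTC hc)⟩ : F.autGroup P₁) ∈
                (autInducedBy T P₁).subgroupOf (F.autGroup P₁) := hc
            obtain ⟨s, hs, -, hsx⟩ :=
              mem_autInducedBy_iff.1 ((Subgroup.mem_normalizer_iff.1 hn _).1 hcU)
            refine mem_nPhi.2 ⟨hT.1 htT, htn, s, hT.1 hs, fun x hx => ?_⟩
            rw [← hsx _ (apl_mem _ hx)]
            show _ = apl ((n : MulAut P₁) * c * (n : MulAut P₁)⁻¹) _
            rw [apl_mul _ _ (apl_mem _ hx), apl_inv_apl _ hx, apl_mul _ _ hx, hcx x hx]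
          exact (hbig P₁ _ g hP₁T hc₁ (hlt P₁ hP₁T hc₁) (normalizerIn_le _ _) (hg.mono hle)).congr
            fun x hx => (hgn x hx).symm
        exact (FrattiniRel.comp' hC hP₁T hFe hFn fun x hx => apl_mem _ hx).congr fun x hx => by
          show apl a x = apl (n : MulAut P₁) (apl (e : MulAut P₁) x)
          rw [← apl_mul _ _ hx]
          exact congrArg (fun b : F.autGroup P₁ => apl (b : MulAut P₁) x) hne.symm
      · obtain ⟨g, hg, hga⟩ :=
          (isReceptive_iff.1 (receptive_of_fullyNormalized hS hF hP₁n)).2 P₁ _ hai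
        have hlt₁ : P₁ < P₁ ⊔ centralizerIn T P₁ := lt_of_le_of_ne le_sup_left fun e =>
          hC₁ (le_sup_right.trans e.ge)
        have hle : P₁ ⊔ centralizerIn T P₁ ≤ nPhi S P₁ (apl a) := sup_le hai.1.le_nPhi
          ((inf_le_inf_right _ hT.1).trans centralizerIn_le_nPhi)
        exact (hbig P₁ _ g hP₁T hc₁ hlt₁ (sup_le hP₁T inf_le_left) (hg.mono hle)).congr
          fun x hx => (hga x hx).symm
    have hF2' : FrattiniRel h.sys F P₁ k₂' := FrattiniRel.inv' hC hk₂i hF2 hk₂'l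
    refine (FrattiniRel.comp' hC hP₁T (FrattiniRel.comp' hC hP₁T hF1 hFa fun x hx => hki.mem hx)
      hF2' fun x hx => apl_mem a (hki.mem hx)).congr fun x hx => ?_
    show f x = k₂' (apl a (k x))
    rw [hax _ (hki.mem hx)]
    show f x = k₂' (k₂ (f (k' (k x))))
    rw [hk'l x hx, hk₂'l _ (hP₂.mem hx)]

/-- The generated system is invariant. -/
theorem invariant : h.sys.IsInvariantIn F :=
  invariant_of_mor h.sys_sub h.sc (fun _ _ hf _ hβ => h.transInv hf hβ)
    fun P f hP hf => h.frattini P hP f hf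

/-- The centric subgroups of the generated system are centric in `T`. -/
theorem tc_of_centric (hP : h.sys.IsCentric P) : TC F T P := by
  refine ⟨hP.1, fun Q hQ c hc => ?_⟩
  obtain ⟨f, hf⟩ := isConj_iff.1 hQ
  obtain ⟨β, hβ, g, hg, hfg⟩ := h.frattini P hP.1 f hf.1
  obtain ⟨Q₀, hQ₀⟩ := hg.exists_iso
  have hβm := (iso_apl (F := F) h.sc.1 hβ).1
  have hd : apl β⁻¹ c ∈ centralizerIn T Q₀ := by
    refine ⟨apl_mem _ hc.1, Subgroup.mem_centralizer_iff.2 fun y hy => ?_⟩
    obtain ⟨x, hx, rfl⟩ := hQ₀.exists_eq hy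
    have hgT : g x ∈ T := hg.mem_S hx
    have hcT := apl_mem β⁻¹ hc.1
    refine hβm.injOn (T.mul_mem hgT hcT) (T.mul_mem hcT hgT) ?_
    rw [hβm.map_mul hgT hcT, hβm.map_mul hcT hgT, apl_apl_inv β hc.1, ← hfg x hx,
      Subgroup.mem_centralizer_iff.1 hc.2 _ (hf.mem hx)]
  obtain ⟨x, hx, hxe⟩ := hQ₀.exists_eq (hP.2 Q₀ hQ₀.isConj hd)
  have h1 := hfg x hx
  rw [hxe, apl_apl_inv β hc.1] at h1
  exact h1 ▸ hf.mem hx

end AMap

end Cfsg.Agent.FusSys.AM
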