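import Cfsg.Agent.FusSys.AMap.Top
import Cfsg.Agent.FusSys.SatPairs

/-!
The loop lemma: at top members the generated automorphisms lie in the family.
-/

set_option autoImplicit false
set_option linter.unusedSectionVars false
set_option linter.style.haveILetI false
set_option linter.unusedVariables false
set_option maxHeartbeats 800000

namespace Cfsg.Agent.FusSys.AM

open Cfsg Cfsg.FusionSystem Cfsg.Agent.FusSys

universe u

variable {Ω : Type u} [Group Ω] {S T : Subgroup Ω} {F : FusionSystem S}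
variable {P Q R P₁ P₂ P₃ : Subgroup Ω} {f g : Ω → Ω} {p : ℕ}
variable {A : ∀ P : Subgroup Ω, Subgroup (MulAut P)}

namespace AMap

variable (h : AMap p F T A)
include h

/-- The classes above `n` are known. -/
def Known (h : AMap p F T A) (n : ℕ) : Prop :=
  ∀ Y : Subgroup Ω, TC F T Y → n < Nat.card Y →
    SatClass h.sys p Y ∧ h.sys.autGroup Y ≤ A Y

/-- The value of a map at `P`, up to the family's group, as a normalizer map of top members. -/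
def Split (h : AMap p F T A) (P₁ P₂ : Subgroup Ω) (f : Ω → Ω) : Prop :=
  ∃ r σ, NMap h P₁ P₂ r ∧ σ ∈ A P₁ ∧ ∀ x ∈ P₁, f x = r (apl σ x)

variable [Fact p.Prime] [Finite S]

theorem split_of_nmap (h₁ : Top F T P₁) (hf : NMap h P₁ P₂ f) : h.Split P₁ P₂ f :=
  ⟨f, 1, hf, Subgroup.one_mem _, fun x hx => by rw [apl_one hx]⟩

/-- A split map followed by an element of the family is split. -/
theorem split_mul (h₁ : Top F T P₁) (hs : h.Split P₁ P₂ f) {τ : MulAut P₂} (hτ : τ ∈ A P₂) :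
    h.Split P₁ P₂ (apl τ ∘ f) := by
  obtain ⟨r, σ, hr, hσ, hx⟩ := hs
  obtain ⟨r', hr', hrN, hr'r, hrr'⟩ := h.nmap_inv h₁ hr
  have hτ' : (h.sys_iso_F hr'.2.1).conjAut τ ∈ A P₁ :=
    h.equiv (h.sys_iso_F hr'.2.1) hr.2.2.1 hτ
  refine ⟨r, (h.sys_iso_F hr'.2.1).conjAut τ * σ, hr, Subgroup.mul_mem _ hτ' hσ, fun x hxP => ?_⟩
  have hy : r (apl σ x) ∈ P₂ := hr.2.1.mem (apl_mem σ hxP)
  have h1 := (h.sys_iso_F hr'.2.1).conjAut_apl τ hy
  rw [hr'r _ (le_normalizerIn h₁.1.1 (apl_mem σ hxP))] at h1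
  show apl τ (f x) = _
  rw [hx x hxP, apl_mul _ _ hxP, h1,
    hrr' _ (le_normalizerIn hr.2.2.1.1 (apl_mem τ hy))]

/-- Composites of split maps are split. -/
theorem split_comp (h₁ : Top F T P₁) (hf : h.Split P₁ P₂ f) (hg : h.Split P₂ P₃ g) :
    h.Split P₁ P₃ (g ∘ f) := by
  obtain ⟨r, τ, hr, hτ, hx⟩ := hg
  obtain ⟨r₁, σ₁, hr₁, hσ₁, hx₁⟩ := h.split_mul h₁ hf hτ
  have hfm : ∀ x ∈ P₁, f x ∈ P₂ := fun x hxP => by
    obtain ⟨r₀, σ₀, hr₀, -, hx₀⟩ := hf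
    rw [hx₀ x hxP]
    exact hr₀.2.1.mem (apl_mem σ₀ hxP)
  refine ⟨r ∘ r₁, σ₁, h.nmap_comp h₁.1.1 hr₁ hr, hσ₁, fun x hxP => ?_⟩
  show g (f x) = r (r₁ (apl σ₁ x))
  rw [hx _ (hfm x hxP)]
  exact congrArg r (hx₁ x hxP)

/-- The inverse of a split map is split. -/
theorem split_inv (h₁ : Top F T P₁) (hf : h.Split P₁ P₂ f) (hg : ∀ x ∈ P₁, g (f x) = x) :
    h.Split P₂ P₁ g := by
  obtain ⟨r, σ, hr, hσ, hx⟩ := hf
  obtain ⟨r', hr', hrN, hr'r, hrr'⟩ := h.nmap_inv h₁ hr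
  refine ⟨r', (h.sys_iso_F hr.2.1).conjAut σ⁻¹, hr', h.equiv _ h₁.1 (Subgroup.inv_mem _ hσ),
    fun y hy => ?_⟩
  obtain ⟨x, hxP, rfl⟩ := hr.2.1.exists_eq hy
  rw [(h.sys_iso_F hr.2.1).conjAut_apl _ hxP, hr'r _ (le_normalizerIn h₁.1.1 (apl_mem _ hxP))]
  have h1 := hg _ (apl_mem σ⁻¹ hxP)
  rwa [hx _ (apl_mem σ⁻¹ hxP), apl_apl_inv σ hxP] at h1

theorem Split.congr' (hf : h.Split P₁ P₂ f) (he : ∀ x ∈ P₁, g x = f x) : h.Split P₁ P₂ g := by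
  obtain ⟨r, σ, hr, hσ, hx⟩ := hf
  exact ⟨r, σ, hr, hσ, fun x hxP => (he x hxP).trans (hx x hxP)⟩

/-- The loop lemma. -/
theorem loop (hup : h.Known (Nat.card P)) :
    ∀ (D : Subgroup Ω) (f : Ω → Ω) (P₁ P₂ : Subgroup Ω), F.IsConj P P₁ → Top F T P₁ → Top F T P₂ →
      P₁ ≤ D → (P₁ < D ∨ D = normalizerIn T P₁) → D ≤ normalizerIn T P₁ → Mor h.sys D f →
      Iso h.sys P₁ P₂ f → h.Split P₁ P₂ f := by
  haveI := h.finite_T
  suffices H : ∀ n, ∀ (D : Subgroup Ω) (f : Ω → Ω) (P₁ P₂ : Subgroup Ω), Nat.card T - Nat.card D = n →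
      F.IsConj P P₁ → Top F T P₁ → Top F T P₂ →
      P₁ ≤ D → (P₁ < D ∨ D = normalizerIn T P₁) → D ≤ normalizerIn T P₁ → Mor h.sys D f →
      Iso h.sys P₁ P₂ f → h.Split P₁ P₂ f from fun D f P₁ P₂ => H _ D f P₁ P₂ rfl
  intro n
  induction n using Nat.strong_induction_on with
  | _ n ih =>
  intro D f P₁ P₂ hn hc h₁ h₂ hPD hor hDN hf hfi
  rcases eq_or_lt_of_le hDN with rfl | hDlt
  · exact h.split_of_nmap h₁ ⟨hf, hfi, h₂⟩
  have hlt : P₁ < D := hor.elim id fun e => absurd e hDlt.ne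
  have hTp := h.isP_T
  have hDT : D ≤ T := hDN.trans (normalizerIn_le _ _)
  have hTCD : TC F T D := h₁.1.mono hPD hDT
  have hcard : Nat.card P < Nat.card D := by
    rw [isConj_card_eq hc]
    exact card_lt_of_lt' hDT hlt
  obtain ⟨D₂, hD₂⟩ := hf.exists_iso
  obtain ⟨Y, P₃, u, hstd, hu, huP⟩ := exists_std hTp hPD (hup D hTCD hcard).1
  obtain ⟨a, ha, haD, haP, ham⟩ := to_std hTp hstd hPD hu huP
  obtain ⟨f', hf', hf'f, hff'⟩ := hD₂.symm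
  have hP₂D : P₂ ≤ D₂ := fun y hy => by
    obtain ⟨x, hx, rfl⟩ := hfi.exists_eq hy
    exact hD₂.mem (hPD hx)
  have hf'P : Iso h.sys P₂ P₁ f' := ⟨hf'.1.mono hP₂D, fun x => ⟨fun hx =>
    ⟨f x, hfi.mem hx, hf'f x (hPD hx)⟩, fun ⟨y, hy, hyx⟩ => by
      obtain ⟨z, hz, rfl⟩ := hfi.exists_eq hy
      rw [hf'f z (hPD hz)] at hyx
      exact hyx ▸ hz⟩⟩
  obtain ⟨b, hb, hbD, hbP, hbm⟩ := to_std hTp hstd hP₂D (hf'.comp hu) (hf'P.comp huP)
  have hTC₃ : TC F T P₃ := h₁.1.of_iso h.sc (h.sys_iso_F huP)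
  obtain ⟨P₄, g₀, hg₀⟩ := h.exists_nmap hTC₃
  have hP₃Y : P₃ ≤ Y := hstd.le
  have hYN : Y ≤ normalizerIn T P₃ := fun y hy => by
    obtain ⟨x, hx, rfl⟩ := haD.exists_eq hy
    exact (ham x ⟨⟨(hDT hx), Subgroup.le_normalizer hx⟩, hDN hx⟩).2
  -- the two normalizer parts
  have step : ∀ {D' P' : Subgroup Ω} {a' : Ω → Ω}, F.IsConj P P' → Top F T P' → P' ≤ D' →
      D' ≤ normalizerIn T P' → Nat.card D = Nat.card D' → Mor h.sys (pairNorm T D' P') a' →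
      Iso h.sys P' P₃ a' → (∀ x ∈ pairNorm T D' P', a' x ∈ pairNorm T Y P₃) →
      h.Split P' P₄ (g₀ ∘ a') := by
    intro D' P' a' hc' h' hP'D' hD'N hcc ha' ha'P ha'm
    have hPt : pairNorm T D' P' = normalizerIn T D' ⊓ normalizerIn T P' := rfl
    have hD'lt : D' < normalizerIn T P' := by
      refine lt_of_le_of_ne hD'N fun e => ?_
      have h3 := h₁.2 P' (isConj_trans (isConj_symm hc) hc')
      have h4 := h'.2 P₁ (isConj_trans (isConj_symm hc') hc)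
      have h5 := card_lt_of_lt' (normalizerIn_le T P₁) hDlt
      rw [hcc, e] at h5
      omega
    have hbig : D' < pairNorm T D' P' := lt_of_lt_of_le
      (lt_inf_normalizer hTp (normalizerIn_le T P') hD'lt) fun z hz => ⟨⟨hz.1.1, hz.2⟩, hz.1⟩
    have hNP : pairNorm T D' P' ≤ normalizerIn T P' := inf_le_right
    refine ih _ ?_ (pairNorm T D' P') (g₀ ∘ a') P' P₄ rfl hc' h' hg₀.2.2
      (hP'D'.trans hbig.le) (Or.inl (lt_of_le_of_lt hP'D' hbig)) hNP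
      (ha'.comp hg₀.1 fun x hx => (ha'm x hx).2) (ha'P.comp hg₀.2.1)
    have h5 := card_lt_of_lt' (pairNorm_le T D' P') hbig
    have h6 : Nat.card (pairNorm T D' P') ≤ Nat.card T := Subgroup.card_le_of_le (pairNorm_le T D' P')
    omega
  have s1 := step hc h₁ hPD hDN rfl ha haP ham
  have hD₂N : D₂ ≤ normalizerIn T P₂ := fun y hy => by
    obtain ⟨x, hx, rfl⟩ := hD₂.exists_eq hy
    exact hf.mem_normalizerIn hPD hfi hx (hDN hx).2
  have s2 := step (isConj_trans hc (h.sys_iso_F hfi).isConj) h₂ hP₂D hD₂N hD₂.card_eq hb hbP hbm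
  -- the middle automorphism
  obtain ⟨a₂, ha₂, ha₂a, haa₂⟩ := haD.symm
  have hτ : Iso h.sys Y Y (b ∘ f ∘ a₂) := (ha₂.comp hD₂).comp hbD
  obtain ⟨τ, hτa, hτx⟩ := hτ.exists_mem_autGroup
  have hcY : Nat.card P < Nat.card Y := by rw [← haD.card_eq]; exact hcard
  have hτA := (hup Y (hTC₃.mono hP₃Y (hYN.trans (normalizerIn_le _ _))) hcY).2 hτa
  have hP₃lt : P₃ < Y := lt_of_le_of_ne hP₃Y fun e => by
    rw [← e, ← haP.card_eq, ← isConj_card_eq hc] at hcY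
    exact lt_irrefl _ hcY
  have hτi : Iso h.sys P₃ P₃ (apl τ) := by
    obtain ⟨a₃, ha₃, ha₃a, -⟩ := haP.symm
    refine ((ha₃.comp hfi).comp hbP).congr fun y hy => ?_
    obtain ⟨x, hx, rfl⟩ := haP.exists_eq hy
    rw [hτx _ (hP₃Y (haP.mem hx))]
    show b (f (a₂ (a x))) = b (f (a₃ (a x)))
    rw [ha₂a x (hPD hx), ha₃a x hx]
  obtain ⟨τ₀, hτ₀, hτ₀x⟩ := h.restr hTC₃ hP₃lt hYN hτA (h.sys_iso_F hτi)
  have hτ₄ : (h.sys_iso_F hg₀.2.1).conjAut τ₀ ∈ A P₄ := h.equiv _ hTC₃ hτ₀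
  have key : h.Split P₁ P₄ (g₀ ∘ (b ∘ f)) :=
    (h.split_mul h₁ s1 hτ₄).congr' h fun x hx => by
      show g₀ (b (f x)) = apl _ (g₀ (a x))
      rw [(h.sys_iso_F hg₀.2.1).conjAut_apl τ₀ (haP.mem hx), hτ₀x _ (haP.mem hx),
        hτx _ (hP₃Y (haP.mem hx))]
      show _ = g₀ (b (f (a₂ (a x))))
      rw [ha₂a x (hPD hx)]
  obtain ⟨b', hb', hb'b, -⟩ := (hbP.comp hg₀.2.1).symm
  exact (h.split_comp h₁ key (h.split_inv h₂ s2 (g := b') hb'b)).congr' h fun x hx => by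
    show f x = b' ((g₀ ∘ b) (f x))
    rw [hb'b _ (hfi.mem hx)]

end AMap

end Cfsg.Agent.FusSys.AM
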