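import Cfsg.Agent.FusSys.AMap.Ext
import Cfsg.Agent.FusSys.SatCriterion

/-!
The generated system is saturated, has the family's automorphism groups, and is weakly normal.
-/

set_option autoImplicit false
set_option linter.unusedSectionVars false
set_option linter.style.haveILetI false
set_option linter.unusedVariables false
set_option maxHeartbeats 800000

namespace Cfsg.Agent.FusSys.AM

open Cfsg Cfsg.FusionSystem Cfsg.Agent.FusSys

universe u

variable {Ω : Type u} [Group Ω] {S T : Subgroup Ω} {F : FusionSystem S}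
variable {P Q R : Subgroup Ω} {f g : Ω → Ω} {p : ℕ}
variable {A : ∀ P : Subgroup Ω, Subgroup (MulAut P)}

namespace AMap

variable (h : AMap p F T A) [Fact p.Prime] [Finite S]
include h

/-- A top member is receptive in the generated system. -/
theorem receptive_top (hup : h.Known (Nat.card P)) (hP : Top F T P) : h.sys.IsReceptive P := by
  haveI := h.finite_T
  refine isReceptive_iff.2 ⟨hP.1.1, fun R φ hφ => ?_⟩
  have hφF := h.sys_iso_F hφ
  have hPR := isConj_symm hφF.isConj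
  obtain ⟨hM, hgen⟩ := h.subRel_rel hup hP.1
  have hR : TC F T R := by
    obtain ⟨k, hk⟩ := isConj_iff.1 hPR
    exact hP.1.of_iso h.sc hk
  obtain ⟨P₂, g, hg⟩ := h.exists_nmap hR
  obtain ⟨s, ⟨r, σ, hr, hσ, hrσ⟩, hsx⟩ := ((h.mor_sys.1 hφ.1).2 _ hM hgen).2 R P P₂ P g id le_rfl
    hPR hφ hg.2.2 hg (h.nmap_id hP)
  obtain ⟨r', hr', hrN, hr'r, hrr'⟩ := h.nmap_inv hg.2.2 hr
  have hNR : nPhi T R φ ≤ normalizerIn T R := nPhi_le
  have hRN : R ≤ nPhi T R φ := hφ.1.le_nPhi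
  have hgN := hg.1.mono hNR
  obtain ⟨M, hM'⟩ := hgN.exists_iso
  have hgm : ∀ a ∈ nPhi T R φ, g a ∈ normalizerIn T P₂ := fun a ha =>
    h.nmap_mem hR.1 hg.1 hg.2.1 (hNR ha)
  have hMN : M ≤ normalizerIn T P₂ := fun y hy => by
    obtain ⟨x, hx, rfl⟩ := hM'.exists_eq hy
    exact hgm x hx
  have hP₂M : P₂ ≤ M := fun y hy => by
    obtain ⟨x, hx, rfl⟩ := hg.2.1.exists_eq hy
    exact hM'.mem (hRN hx)
  -- the map `σ` read through `r'`
  have hval : ∀ x ∈ R, apl σ (g x) = r' (φ x) := fun x hx => by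
    have h1 := hsx x hx
    rw [hrσ _ (hg.2.1.mem hx)] at h1
    rw [show φ x = r (apl σ (g x)) from h1,
      hr'r _ (le_normalizerIn hg.2.2.1.1 (apl_mem σ (hg.2.1.mem hx)))]
  have hconj : ∀ τ ∈ autInducedBy M P₂, σ * τ * σ⁻¹ ∈ autInducedBy T P₂ := by
    intro τ hτ
    obtain ⟨m, hm, hmn, hmx⟩ := mem_autInducedBy_iff.1 hτ
    obtain ⟨a, ha, rfl⟩ := hM'.exists_eq hm
    obtain ⟨haT, han, b, hbT, hb⟩ := mem_nPhi.1 ha
    have hbN : b ∈ normalizerIn T P := by
      haveI := finite_of_le (hP.1.1.trans h.sc.1)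
      refine ⟨hbT, mem_normalizer_of_conj_mem fun y hy => ?_⟩
      obtain ⟨x, hx, rfl⟩ := hφ.exists_eq hy
      rw [← hb x hx]
      exact hφ.mem ((Subgroup.mem_normalizer_iff.1 han x).1 hx)
    have hb' : r' b ∈ normalizerIn T P₂ := h.nmap_mem hP.1.1 hr'.1 hr'.2.1 hbN
    refine mem_autInducedBy_iff.2 ⟨r' b, hb'.1, hb'.2, fun z hz => ?_⟩
    obtain ⟨w, hw, rfl⟩ : ∃ w ∈ P₂, apl σ w = z := ⟨apl σ⁻¹ z, apl_mem _ hz, apl_apl_inv σ hz⟩
    obtain ⟨x, hx, rfl⟩ := hg.2.1.exists_eq hw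
    have hax := (Subgroup.mem_normalizer_iff.1 han x).1 hx
    rw [apl_mul _ _ (apl_mem σ (hg.2.1.mem hx)), apl_inv_apl σ (hg.2.1.mem hx),
      apl_mul _ _ (hg.2.1.mem hx), hmx _ (hg.2.1.mem hx),
      ← hgN.map_conj ha (hRN hx), hval _ hax, hb x hx, hval x hx,
      hr'.1.map_conj hbN (le_normalizerIn hP.1.1 (hφ.mem hx))]
  obtain ⟨e, he, hex⟩ := h.ext_sigma hg.2.2 M σ hP₂M hMN hσ hconj
  have hei : Iso h.sys P₂ P₂ e := ((iso_apl hg.2.2.1.1 (h.le_autGroup_sys hg.2.2.1 hσ))).congr hex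
  have hem : ∀ y ∈ M, e y ∈ normalizerIn T P₂ := fun y hy =>
    he.mem_normalizerIn hP₂M hei hy (hMN hy).2
  refine ⟨r ∘ e ∘ g, (hgN.comp he fun a ha => hM'.mem ha).comp hr.1 fun a ha =>
    hem _ (hM'.mem ha), fun x hx => ?_⟩
  show r (e (g x)) = φ x
  rw [hex _ (hg.2.1.mem hx), ← hrσ _ (hg.2.1.mem hx), ← hsx x hx]
  rfl

/-- All classes of centric subgroups are known. -/
theorem known : ∀ n, h.Known n := by
  haveI := h.finite_T
  suffices H : ∀ d (Y : Subgroup Ω), TC F T Y → Nat.card T - Nat.card Y = d →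
      SatClass h.sys p Y ∧ h.sys.autGroup Y ≤ A Y from fun n Y hY _ => H _ Y hY rfl
  intro d
  induction d using Nat.strong_induction_on with
  | _ d ih =>
  intro Y hY hd
  have hup : h.Known (Nat.card Y) := fun Z hZ hlt => by
    have h1 : Nat.card Z ≤ Nat.card T := Subgroup.card_le_of_le hZ.1
    exact ih (Nat.card T - Nat.card Z) (by omega) Z hZ rfl
  refine ⟨?_, h.autGroup_le hup hY⟩
  obtain ⟨P, g, hg⟩ := h.exists_nmap hY
  have hcP : Nat.card P = Nat.card Y := hg.2.1.card_eq.symm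
  have hupP : h.Known (Nat.card P) := hcP ▸ hup
  have e : h.sys.autGroup P = A P :=
    le_antisymm (h.autGroup_le hupP hg.2.2.1) (h.le_autGroup_sys hg.2.2.1)
  refine ⟨P, hg.2.1.isConj, (fullyAutomized_iff h.isP_T hg.2.2.1.1).2 ?_,
    h.receptive_top hupP hg.2.2⟩
  rw [e]
  exact (h.syl_top hg.2.2).2

theorem autGroup_eq (hP : TC F T P) : h.sys.autGroup P = A P :=
  le_antisymm (h.autGroup_le (h.known _) hP) (h.le_autGroup_sys hP)

/-- The generated system is saturated. -/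
theorem saturated : h.sys.IsSaturated p := by
  haveI := h.finite_T
  refine saturated_of_family h.isP_T (ℋ := {P | TC F T P}) (fun P hP => hP.1)
    (fun P hP Q hQ => ?_) (fun P hP => (h.known 0 P hP (by haveI := finite_of_le (hP.1.trans h.sc.1); exact Nat.card_pos)).1) (fun E hE => ?_)
    fun P hP hnP => absurd (h.tc_of_centric hP) hnP
  · obtain ⟨f, hf⟩ := isConj_iff.1 hQ
    exact hP.of_iso h.sc (h.sys_iso_F hf)
  · refine le_iff_mor.2 fun P f hf => ?_
    let M : Subgroup Ω → (Ω → Ω) → Prop := fun Q f => Mor h.sys Q f ∧ Mor E Q f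
    have hsr : SubRel h.sys T M :=
      { congr := fun h1 he => ⟨h1.1.congr he, h1.2.congr he⟩
        le := fun h1 => ⟨h1.1.le, fun _ hx => h1.1.mem_S hx⟩
        conj := fun hP hs => ⟨mor_conj hP hs, mor_conj hP hs, mor_conj hP hs⟩
        comp := fun _ h1 _ h2 hfR => ⟨h1.1.comp h2.1 hfR, h1.2.comp h2.2 hfR⟩
        inv := fun hf h1 hg hgf => ⟨hg.1, by
          obtain ⟨k, hk, hkl, -⟩ := (show Iso E _ _ _ from ⟨h1.2, hf.2⟩).symm
          refine hk.1.congr fun y hy => ?_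
          obtain ⟨x, hx, rfl⟩ := hf.exists_eq hy
          rw [hgf x hx, hkl x hx]⟩ }
    have hsrF : SubRel F T M :=
      { congr := hsr.congr
        le := hsr.le
        conj := fun hP hs => ⟨mor_conj (hP.trans h.sc.1) (h.sc.1 hs), (hsr.conj hP hs).2⟩
        comp := fun hf h1 hg h2 hfQ => hsr.comp h1.1 h1 h2.1 h2 hfQ
        inv := fun {A B f g} hf h1 hg hgf => by
          obtain ⟨k, hk, hkl, -⟩ := (show Iso h.sys A B f from ⟨h1.1, hf.2⟩).symm
          have hgk : Iso h.sys B A g := hk.congr fun y hy => by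
            obtain ⟨x, hx, rfl⟩ := hf.exists_eq hy
            rw [hkl x hx, hgf x hx]
          exact hsr.inv (⟨h1.1, hf.2⟩ : Iso h.sys A B f) h1 hgk hgf }
    refine ((h.mor_sys.1 hf).2 M hsrF fun R α hR hα => ⟨h.mor_gen hR hα, ?_⟩).2
    obtain ⟨φ, hφ, hφx⟩ := h.mor_gen hR hα
    exact ⟨φ, hE R hR hφ, hφx⟩

/-- The generated system is weakly normal. -/
theorem weaklyNormal : h.sys.IsWeaklyNormalIn F p := ⟨h.saturated, h.sat, h.invariant⟩

/-- An invariant system with automorphism groups containing the family contains the generated one. -/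
theorem sys_le {E : FusionSystem T} (hE : ∀ P, TC F T P → A P ≤ E.autGroup P) : h.sys ≤ E := by
  haveI := h.finite_T
  refine le_of_aut_le h.isP_T h.saturated fun R hR => ?_
  have hTC : TC F T R := hR.elim (fun e => e.symm ▸ TC.top h.sc) fun he => h.tc_of_centric he.1
  exact h.autGroup_eq hTC ▸ hE R hTC

end AMap

end Cfsg.Agent.FusSys.AM
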