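import Cfsg.Agent.FusSys.AMap.Gen

/-!
Members of a class with a normalizer in `T` of largest order, and normalizer maps onto them.
-/

set_option autoImplicit false
set_option linter.unusedSectionVars false
set_option linter.style.haveILetI false
set_option linter.unusedVariables false
set_option maxHeartbeats 400000

namespace Cfsg.Agent.FusSys.AM

open Cfsg Cfsg.FusionSystem Cfsg.Agent.FusSys

universe u

variable {Ω : Type u} [Group Ω] {S T : Subgroup Ω} {F : FusionSystem S}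
variable {P Q R P₁ P₂ P₃ : Subgroup Ω} {f g : Ω → Ω} {p : ℕ}
variable {A : ∀ P : Subgroup Ω, Subgroup (MulAut P)}

/-- A centric member of its class with the largest normalizer in `T`. -/
def Top (F : FusionSystem S) (T P : Subgroup Ω) : Prop :=
  TC F T P ∧ ∀ Q, F.IsConj P Q → Nat.card (normalizerIn T Q) ≤ Nat.card (normalizerIn T P)

namespace AMap

variable (h : AMap p F T A)
include h

/-- A map of the generated system on the normalizer, onto a top member. -/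
def NMap (h : AMap p F T A) (R P : Subgroup Ω) (g : Ω → Ω) : Prop :=
  Mor h.sys (normalizerIn T R) g ∧ Iso h.sys R P g ∧ Top F T P

theorem nmap_mem (hR : R ≤ T) (hg : Mor h.sys (normalizerIn T R) g) (hi : Iso h.sys R P g)
    {x : Ω} (hx : x ∈ normalizerIn T R) : g x ∈ normalizerIn T P :=
  hg.mem_normalizerIn (le_normalizerIn hR) hi hx hx.2

theorem nmap_id (hP : Top F T P) : NMap h P P id :=
  ⟨mor_id (normalizerIn_le _ _), iso_id hP.1.1, hP⟩

variable [Fact p.Prime] [Finite S]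

theorem top_card_le (hR : Top F T R) (hc : F.IsConj R P) :
    Nat.card (normalizerIn T P) ≤ Nat.card (normalizerIn T R) := hR.2 P hc

/-- A normalizer map from a top member is onto the normalizer, so invertible. -/
theorem nmap_inv (hR : Top F T R) (hg : NMap h R P g) :
    ∃ g', NMap h P R g' ∧ Iso h.sys (normalizerIn T R) (normalizerIn T P) g ∧
      (∀ x ∈ normalizerIn T R, g' (g x) = x) ∧ ∀ y ∈ normalizerIn T P, g (g' y) = y := by
  haveI := h.finite_T
  have hmem : ∀ x ∈ normalizerIn T R, g x ∈ normalizerIn T P := fun x hx =>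
    h.nmap_mem hR.1.1 hg.1 hg.2.1 hx
  have hc := hR.2 P (h.sys_iso_F hg.2.1).isConj
  have hi : Iso h.sys (normalizerIn T R) (normalizerIn T P) g :=
    ⟨hg.1, fun y => ⟨fun hy => hg.1.surj_of_card (normalizerIn_le T P) hmem hc hy,
      fun ⟨x, hx, hxy⟩ => hxy ▸ hmem x hx⟩⟩
  obtain ⟨g', hg', hg'g, hgg'⟩ := hi.symm
  refine ⟨g', ⟨hg'.1, ⟨hg'.1.mono (le_normalizerIn hg.2.2.1.1), fun x => ⟨fun hx =>
    ⟨g x, hg.2.1.mem hx, hg'g x (le_normalizerIn hR.1.1 hx)⟩, ?_⟩⟩, hR⟩, hi, hg'g, hgg'⟩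
  rintro ⟨y, hy, rfl⟩
  obtain ⟨x, hx, rfl⟩ := hg.2.1.exists_eq hy
  rw [hg'g x (le_normalizerIn hR.1.1 hx)]
  exact hx

theorem nmap_comp (hR : R ≤ T) (hg : NMap h R P g) (hf : NMap h P Q f) :
    NMap h R Q (f ∘ g) :=
  ⟨hg.1.comp hf.1 fun x hx => h.nmap_mem hR hg.1 hg.2.1 hx, hg.2.1.comp hf.2.1, hf.2.2⟩

/-- A fully normalized member is a top member. -/
theorem top_of_fullyNormalized (hP : F.IsFullyNormalized P) (hTC : TC F T P) : Top F T P := by
  refine ⟨hTC, fun Q hQ => ?_⟩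
  obtain ⟨k, hk, hki, hkm⟩ := exists_mor_to_fullyNormalized h.pS h.sat hP (isConj_symm hQ)
  refine (hk.mono (inf_le_inf_right _ h.sc.1)).card_image_le ((normalizerIn_le T P).trans h.sc.1)
    fun x hx => ⟨StronglyClosed.mor_mem h.sc (hk.mono (inf_le_inf_right _ h.sc.1)) hx hx.1,
      (hkm x ⟨h.sc.1 hx.1, hx.2⟩).2⟩

/-- Every member of a class has a normalizer map onto a top member. -/
theorem exists_nmap (hR : TC F T R) : ∃ P g, NMap h R P g := by
  haveI := h.finite_T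
  obtain ⟨Q, k, hQ, hk, hki, hkm⟩ := exists_fullyNormalized_mor h.pS h.sat (hR.1.trans h.sc.1)
  have hNS : normalizerIn T R ≤ normalizerIn S R := inf_le_inf_right _ h.sc.1
  have hQT := hR.of_iso h.sc hki
  have hQtop := h.top_of_fullyNormalized hQ hQT
  obtain ⟨β, hβ, g, hg, hgx⟩ := h.frattini _ (normalizerIn_le T R) k (hk.mono hNS)
  have hRN : R ≤ normalizerIn T R := le_normalizerIn hR.1
  obtain ⟨P, hP⟩ := (hg.mono hRN).exists_iso
  have hPT := hR.of_iso h.sc (h.sys_iso_F hP)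
  have hβi : Iso F P Q (apl β) := ⟨(iso_apl h.sc.1 hβ).1.mono hPT.1, fun y => by
    rw [hki.2 y]
    constructor
    · rintro ⟨x, hx, rfl⟩
      exact ⟨g x, hP.mem hx, (hgx x (hRN hx)).symm⟩
    · rintro ⟨z, hz, rfl⟩
      obtain ⟨x, hx, rfl⟩ := hP.exists_eq hz
      exact ⟨x, hx, hgx x (hRN hx)⟩⟩
  refine ⟨P, g, hg, hP, hPT, fun P' hP' => (hQtop.2 P'
    (isConj_trans (isConj_symm hβi.isConj) hP')).trans ?_⟩
  obtain ⟨β', hβ', hβ'β, hββ'⟩ := hβi.symm
  have hm := (iso_apl (F := F) h.sc.1 (Subgroup.inv_mem _ hβ)).1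
  have hinv : Iso F Q P (apl β⁻¹) := hβ'.congr fun y hy => by
    obtain ⟨x, hx, rfl⟩ := hβi.exists_eq hy
    rw [apl_inv_apl β (hPT.1 hx), hβ'β x hx]
  exact (hm.mono (normalizerIn_le T Q)).card_image_le ((normalizerIn_le T P).trans h.sc.1) fun x hx =>
    ⟨apl_mem _ hx.1, ((hm.mono (normalizerIn_le T Q)).mem_normalizerIn (le_normalizerIn hQT.1)
      hinv hx hx.2).2⟩

/-- A top member is carried with its normalizer in `T` onto that of a fully normalized one. -/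
theorem top_transfer (hP : Top F T P) :
    ∃ Q k, F.IsFullyNormalized Q ∧ Iso F P Q k ∧ TC F T Q ∧
      Iso F (normalizerIn T P) (normalizerIn T Q) k := by
  obtain ⟨Q, k, hQ, hk, hki, hkm⟩ := exists_fullyNormalized_mor h.pS h.sat (hP.1.1.trans h.sc.1)
  have hNS : normalizerIn T P ≤ normalizerIn S P := inf_le_inf_right _ h.sc.1
  have hQT := hP.1.of_iso h.sc hki
  have hm := hk.mono hNS
  have hmem : ∀ x ∈ normalizerIn T P, k x ∈ normalizerIn T Q := fun x hx =>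
    ⟨StronglyClosed.mor_mem h.sc hm hx hx.1, (hkm x (hNS hx)).2⟩
  exact ⟨Q, k, hQ, hki, hQT, hm, fun y => ⟨fun hy => hm.surj_of_card
    ((normalizerIn_le T Q).trans h.sc.1) hmem (hP.2 Q hki.isConj) hy,
    fun ⟨x, hx, hxy⟩ => hxy ▸ hmem x hx⟩⟩

/-- The family's group at a top member has the automorphisms induced by `T` as a Sylow subgroup. -/
theorem syl_top (hP : Top F T P) : SylIn p (autInducedBy T P) (A P) := by
  obtain ⟨Q, k, hQ, hki, hQT, hkN⟩ := h.top_transfer hP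
  have hPN := le_normalizerIn (S := T) hP.1.1
  obtain ⟨k', hk', hk'k, hkk'⟩ := hki.symm
  have e1 : (A P).map hki.conjAut.toMonoidHom = A Q := by
    refine le_antisymm (fun β hβ => ?_) fun β hβ => ?_
    · obtain ⟨α, hα, rfl⟩ := hβ
      exact h.equiv hki hP.1 hα
    · exact ⟨hk'.conjAut β, h.equiv hk' hQT hβ, conjAut_inv hk' hki hkk' β⟩
  have e2 : (autInducedBy T P).map hki.conjAut.toMonoidHom = autInducedBy T Q := by
    refine le_antisymm (fun β hβ => ?_) fun β hβ => ?_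
    · obtain ⟨α, hα, rfl⟩ := hβ
      obtain ⟨t, ht, htn, htx⟩ := mem_autInducedBy_iff.1 hα
      refine mem_autInducedBy_iff.2 ⟨k t, (hkN.mem ⟨ht, htn⟩).1, (hkN.mem ⟨ht, htn⟩).2,
        hki.conjAut_eq_conj fun x hx => ?_⟩
      rw [htx x hx, hkN.1.map_conj ⟨ht, htn⟩ (hPN hx)]
    · obtain ⟨t, ht, htn, htx⟩ := mem_autInducedBy_iff.1 hβ
      obtain ⟨s, hs, rfl⟩ := hkN.exists_eq (show t ∈ normalizerIn T Q from ⟨ht, htn⟩)
      obtain ⟨α, hα, hαx⟩ := exists_mem_autInducedBy (P := P) (K := T) hs.1 hs.2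
      refine ⟨α, hα, apl_ext fun y hy => ?_⟩
      rw [htx y hy]
      refine hki.conjAut_eq_conj (fun x hx => ?_) y hy
      rw [hαx x hx, hkN.1.map_conj hs (hPN hx)]
  obtain ⟨hle, hd⟩ := h.syl hQT hQ
  refine ⟨h.autT hP.1, ?_⟩
  have e3 := Subgroup.relIndex_map_map_of_injective (autInducedBy T P) (A P)
    (f := hki.conjAut.toMonoidHom) hki.conjAut.injective
  rw [← e3]
  show ¬ p ∣ ((autInducedBy T P).map hki.conjAut.toMonoidHom).relIndex
    ((A P).map hki.conjAut.toMonoidHom)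
  rw [e1, e2]
  exact hd

/-- The lifting property at a top member. -/
theorem lift_top (hP : Top F T P) {M : Subgroup Ω} (hPM : P < M) (hM : M ≤ normalizerIn T P)
    {σ : MulAut P} (hσ : σ ∈ A P) (hco : (orderOf σ).Coprime p)
    (hn : ∀ τ ∈ autInducedBy M P, σ * τ * σ⁻¹ ∈ autInducedBy M P) :
    ∃ α ∈ A M, ∀ x ∈ P, apl α x = apl σ x := by
  obtain ⟨Q, k, hQ, hki, hQT, hkN⟩ := h.top_transfer hP
  obtain ⟨M', hM', hM'N⟩ := hkN.restrict hM
  have hkM : Iso F P Q k := hki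
  have hQM : Q < M' := by
    refine lt_of_le_of_ne (fun y hy => ?_) fun e => ?_
    · obtain ⟨x, hx, rfl⟩ := hki.exists_eq hy
      exact hM'.mem (hPM.le hx)
    · have h1 := card_lt_of_lt' (hM.trans ((normalizerIn_le T P).trans h.sc.1)) hPM
      rw [hki.card_eq, hM'.card_eq, e] at h1
      exact lt_irrefl _ h1
  have hind : ∀ {t : Ω}, t ∈ M → ∀ τ : MulAut P, (∀ x ∈ P, apl τ x = t * x * t⁻¹) →
      ∀ y ∈ Q, apl (hki.conjAut τ) y = k t * y * (k t)⁻¹ := fun {t} ht τ hτ =>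
    hki.conjAut_eq_conj fun x hx => by
      rw [hτ x hx, hM'.1.map_conj ht (hPM.le hx)]
  obtain ⟨α, hα, hαx⟩ := h.lift hQT hQ hQM hM'N (h.equiv hki hP.1 hσ)
    (by rw [orderOf_conjAut]; exact hco) fun τ hτ => by
      obtain ⟨t', ht', htn', htx'⟩ := mem_autInducedBy_iff.1 hτ
      obtain ⟨t, ht, rfl⟩ := hM'.exists_eq ht'
      obtain ⟨τ₀, hτ₀, hτ₀x⟩ := exists_mem_autInducedBy (P := P) (K := M) ht (hM ht).2
      have e : hki.conjAut τ₀ = τ := apl_ext fun y hy => by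
        rw [hind ht τ₀ hτ₀x y hy, htx' y hy]
      obtain ⟨s, hs, hsn, hsx⟩ := mem_autInducedBy_iff.1 (hn τ₀ hτ₀)
      rw [← e, ← map_inv, ← map_mul, ← map_mul]
      exact mem_autInducedBy_iff.2 ⟨k s, hM'.mem hs, (hkN.mem (hM hs)).2, hind hs _ hsx⟩
  obtain ⟨k', hk', hk'k, hkk'⟩ := hM'.symm
  have hTM' : TC F T M' := hQT.mono hQM.le (hM'N.trans (normalizerIn_le _ _))
  refine ⟨hk'.conjAut α, h.equiv hk' hTM' hα, fun x hx => ?_⟩
  have h1 := hk'.conjAut_apl α (hM'.mem (hPM.le hx))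
  rw [hk'k x (hPM.le hx), hαx _ (hki.mem hx), hki.conjAut_apl σ hx,
    hk'k _ (hPM.le (apl_mem σ hx))] at h1
  exact h1

end AMap

end Cfsg.Agent.FusSys.AM
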